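import Cfsg.Agent.Lib.PresCert.Cox

/-!
A closed path in a certified coset table puts the value of its word in the subgroup.
-/

namespace CfsgLib.PresCert

open Cfsg.Spor

variable {α : Type*} [DecidableEq α] {Q : Type*} [Group Q] {C : Cert} {sel : List α}
  {known : List (List α)} {subs : List (List α)} {d : α} {f : α → Q}

/-- If the path of a word leads from the first coset back to it, the value of the word lies in the
subgroup. -/
theorem word_mem {js : List Cert.Just} (V : Cert.Valid C js) (hf : ∀ x, f x * f x = 1)
    (hk : ∀ w ∈ known, (w.map f).prod = 1) (hr : okRels C sel known d = true)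
    (hs : okSubs C sel subs d = true) (w : List Nat) (hw : ∀ x ∈ w, x < C.g) (t : Nat)
    (hwalk : C.walk t w 0 = some 0) :
    ((w.map fun x => sel.getD x d).map f).prod ∈ wordsGroup subs f := by
  simp only [okRels, Bool.and_eq_true, decide_eq_true_eq, List.all_eq_true, Bool.or_eq_true,
    List.contains_iff_mem] at hr
  obtain ⟨⟨hg, hinv⟩, hrel⟩ := hr
  simp only [okSubs, Bool.and_eq_true, List.all_eq_true, decide_eq_true_eq] at hs
  obtain ⟨hsl, hs⟩ := hs
  set L := lettersGroup sel f with hL
  have hmem : ∀ x, x < C.g → selGen sel d f x ∈ L := by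
    intro x hx
    refine Subgroup.subset_closure ⟨sel.getD x d, ?_, rfl⟩
    rw [List.getD_eq_getElem?_getD, List.getElem?_eq_getElem (hg ▸ hx)]
    exact List.getElem_mem _
  let gen : Nat → L := fun x => if hx : x < C.g then ⟨selGen sel d f x, hmem x hx⟩ else 1
  have hgen : ∀ x < C.g, ((gen x : L) : Q) = selGen sel d f x := fun x hx => by simp [gen, hx]
  have hprod : ∀ r : List Nat, (∀ x ∈ r, x < C.g) →
      (((r.map gen).prod : L) : Q) = ((r.map fun x => sel.getD x d).map f).prod := by
    intro r hr
    rw [← prod_map_selGen]
    induction r with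
    | nil => simp
    | cons x r ih =>
      simp only [List.map_cons, List.prod_cons, Subgroup.coe_mul]
      rw [ih fun y hy => hr y (List.mem_cons_of_mem _ hy), hgen x (hr x (List.mem_cons_self ..))]
  let M : Model C L :=
    { gen := gen
      gen_inv := fun x hx => by
        have e : C.iv x = x := by
          simp [Cert.iv, hinv, List.getD_eq_getElem?_getD, List.getElem?_range hx]
        rw [e]
        refine ⟨hx, Subtype.ext ?_⟩
        rw [Subgroup.coe_inv, hgen x hx]
        exact eq_inv_of_mul_eq_one_left (hf _)
      rels_eq := fun r hr => by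
        obtain ⟨h1, h2⟩ := hrel r hr
        refine ⟨h1, Subtype.ext ?_⟩
        rw [hprod r h1, Subgroup.coe_one]
        rcases h2 with h2 | h2
        · exact hk _ h2
        · have := hk _ h2
          rwa [prod_reverse_of_invol f hf, inv_eq_one] at this
      sub := (wordsGroup subs f).subgroupOf L
      subs_mem := fun r hr => by
        rw [Subgroup.mem_subgroupOf]
        rw [hprod r (hsl r hr)]
        exact Subgroup.subset_closure ⟨_, hs ▸ List.mem_map.2 ⟨r, hr, rfl⟩, rfl⟩
      closure_gen := by
        rw [eq_top_iff]
        rintro ⟨q, hq⟩ -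
        induction hq using Subgroup.closure_induction'' with
        | mem q hq =>
          obtain ⟨a, ha, rfl⟩ := hq
          obtain ⟨i, hi, rfl⟩ := List.getElem_of_mem ha
          have hi' : i < C.g := hg ▸ hi
          refine Subgroup.subset_closure ⟨i, hi', Subtype.ext ?_⟩
          rw [hgen i hi', selGen, List.getD_eq_getElem?_getD, List.getElem?_eq_getElem hi]
          rfl
        | inv_mem q hq =>
          obtain ⟨a, ha, rfl⟩ := hq
          obtain ⟨i, hi, rfl⟩ := List.getElem_of_mem ha
          have hi' : i < C.g := hg ▸ hi
          refine Subgroup.subset_closure ⟨i, hi', Subtype.ext ?_⟩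
          rw [hgen i hi', selGen, List.getD_eq_getElem?_getD, List.getElem?_eq_getElem hi]
          exact eq_inv_of_mul_eq_one_left (hf _)
        | one => exact one_mem _
        | mul a b ha hb iha ihb =>
          exact mul_mem (iha) (ihb) }
  have h := Cert.walk_sound M (t := t)
    (fun c x hc hx _ => Cert.slots_ok M V _ c x hc hx rfl) w 0 0 hwalk
  rw [Cert.Rel, Cert.val_zero, one_mul, inv_one, mul_one] at h
  have h' : (((w.map gen).prod : L) : Q) ∈ wordsGroup subs f := Subgroup.mem_subgroupOf.1 h
  rwa [hprod w hw] at h'

end CfsgLib.PresCert
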