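import Cfsg.Agent.Lib.PresCert.Sound

/-!
Assembling the slot checks of a certificate from ranges of cosets.
-/

namespace CfsgLib.PresCert

namespace Cert

variable {C : Cert}

/-- all slots of the cosets in `[lo, hi)` are justified -/
def SlotsOK (C : Cert) (lo hi : Nat) : Prop :=
  ∀ c, lo ≤ c → c < hi → ∀ x < C.g, C.okSlot c x = true

theorem slotsOK_of_range {lo len : Nat} (h : C.okRange lo len = true) :
    SlotsOK C lo (lo + len) := by
  intro c h1 h2 x hx
  have := allBelow_spec (allBelow_spec h (c - lo) (by omega)) x hx
  rwa [show Nat.add lo (c - lo) = c from Nat.add_sub_cancel' h1] at this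

theorem SlotsOK.join {a b c : Nat} (h : SlotsOK C a b) (h' : SlotsOK C b c) : SlotsOK C a c := by
  intro d h1 h2
  rcases lt_or_ge d b with hd | hd
  · exact h d h1 hd
  · exact h' d hd h2

end Cert

end CfsgLib.PresCert
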