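import Cfsg.Agent.Lib.PresCert.PermHom
import Cfsg.Agent.Lib.PresCert.Range

/-!
Orders of presented groups from certificates.
-/

namespace CfsgLib.PresCert

open Cfsg.Spor

section Bounds

variable {Q : Type*} [Group Q]

/-- the subgroup is finite of order at most `b` -/
def CardLE (K : Subgroup Q) (b : ℕ) : Prop := Nat.card K ≠ 0 ∧ Nat.card K ≤ b

theorem CardLE.step {K L : Subgroup Q} {b n : ℕ} (hKL : K ≤ L) (hK : CardLE K b)
    (hi : K.relIndex L ≤ n ∧ K.relIndex L ≠ 0) : CardLE L (n * b) := by
  have e : Nat.card (K.subgroupOf L) * (K.subgroupOf L).index = Nat.card L :=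
    Subgroup.card_mul_index _
  rw [Nat.card_congr (Subgroup.subgroupOfEquivOfLe hKL).toEquiv] at e
  constructor
  · rw [← e]
    exact Nat.mul_ne_zero hK.1 hi.2
  · rw [← e, mul_comm n]
    exact Nat.mul_le_mul hK.2 hi.1

theorem CardLE.bot : CardLE (⊥ : Subgroup Q) 1 := by simp [CardLE]

variable {α : Type*} (f : α → Q)

theorem wordsGroup_nil : wordsGroup ([] : List (List α)) f = ⊥ := by simp [wordsGroup]

theorem wordsGroup_singletons (l : List α) :
    wordsGroup (l.map fun x => [x]) f = lettersGroup l f := by
  simp [wordsGroup, lettersGroup]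

theorem wordsGroup_mono {s t : List (List α)} (h : ∀ w ∈ s, w ∈ t) :
    wordsGroup s f ≤ wordsGroup t f :=
  Subgroup.closure_mono fun _ ⟨w, hw, e⟩ => ⟨w, h w hw, e⟩

end Bounds

section Presented

variable {α : Type*} [DecidableEq α] {edges : List (α × ℕ × α)} {extra : List (FreeGroup α)}

/-- the words `ws` evaluate like the relators `extra` on involutions -/
def WordsFor (extra : List (FreeGroup α)) (ws : List (List α)) : Prop :=
  ∀ {Q : Type} [Group Q] (f : α → Q), (∀ x, f x * f x = 1) →
    extra.map (FreeGroup.lift f) = ws.map fun w => (w.map f).prod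

/-- the generators of the presented group -/
def pgen (edges : List (α × ℕ × α)) (extra : List (FreeGroup α)) (x : α) :
    PresentedGroup (coxRelators edges ∪ {r | r ∈ extra}) := PresentedGroup.of x

theorem lift_pgen :
    FreeGroup.lift (pgen edges extra) = PresentedGroup.mk (coxRelators edges ∪ {r | r ∈ extra}) :=
  FreeGroup.ext_hom _ _ fun _ => by simp [pgen, PresentedGroup.of]

theorem pgen_cox {x y : α} (hx : x ∈ coxNodes edges) (hy : y ∈ coxNodes edges) :
    (pgen edges extra x * pgen edges extra y) ^ coxLabel edges x y = 1 := by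
  have := PresentedGroup.one_of_mem (rels := coxRelators edges ∪ {r | r ∈ extra})
    (Or.inl ⟨x, hx, y, hy, rfl⟩)
  rw [← lift_pgen] at this
  simpa using this

theorem pgen_sq (hall : ∀ x : α, x ∈ coxNodes edges) (x : α) :
    pgen edges extra x * pgen edges extra x = 1 := by
  simpa [coxLabel] using pgen_cox (extra := extra) (hall x) (hall x)

theorem pgen_known {α : Type} [DecidableEq α] {edges : List (α × ℕ × α)}
    {extra : List (FreeGroup α)} (hall : ∀ x : α, x ∈ coxNodes edges) {ws : List (List α)}
    (hws : WordsFor extra ws) :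
    ∀ w ∈ knownWords edges ws, (w.map (pgen edges extra)).prod = 1 := by
  refine knownWords_eq_one edges ws _ (fun x hx y hy => pgen_cox hx hy) fun w hw => ?_
  have e := hws (pgen edges extra) (pgen_sq hall)
  have : (w.map (pgen edges extra)).prod ∈ extra.map (FreeGroup.lift (pgen edges extra)) :=
    e ▸ List.mem_map.2 ⟨w, hw, rfl⟩
  obtain ⟨r, hr, e'⟩ := List.mem_map.1 this
  rw [← e', lift_pgen]
  exact PresentedGroup.one_of_mem (Or.inr hr)

theorem top_eq_lettersGroup (l : List α) (hl : ∀ x : α, x ∈ l) :
    lettersGroup l (pgen edges extra) = ⊤ := by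
  rw [eq_top_iff, ← PresentedGroup.closure_range_of, Subgroup.closure_le]
  rintro _ ⟨x, rfl⟩
  exact Subgroup.subset_closure ⟨x, hl x, rfl⟩

theorem map_closure_eq (ws : List (List α)) (S : Set (FreeGroup α))
    (hS : S = {r | ∃ w ∈ ws, (w.map FreeGroup.of).prod = r}) :
    (Subgroup.closure S).map (PresentedGroup.mk (coxRelators edges ∪ {r | r ∈ extra})) =
      wordsGroup ws (pgen edges extra) := by
  rw [MonoidHom.map_closure, ← lift_pgen, hS, wordsGroup]
  congr 1
  have hm : ∀ w : List α, FreeGroup.lift (pgen edges extra) (w.map FreeGroup.of).prod =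
      (w.map (pgen edges extra)).prod := fun w => by
    rw [map_list_prod, List.map_map]
    exact congrArg List.prod (List.map_congr_left fun x _ => by simp)
  ext q
  constructor
  · rintro ⟨_, ⟨w, hw, rfl⟩, rfl⟩
    exact ⟨w, hw, (hm w).symm⟩
  · rintro ⟨w, hw, rfl⟩
    exact ⟨_, ⟨w, hw, rfl⟩, hm w⟩

end Presented

section Rep

variable {α : Type} [DecidableEq α] {edges : List (α × ℕ × α)} {extra : List (FreeGroup α)}
  (D : PermData) (idx : α → Nat) {ws : List (List α)}

/-- the permutation representation of the presented group given by the tables -/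
noncomputable def rep (h : D.okInvol = true) (hws : WordsFor extra ws)
    {ns : List (List Nat)} (hns : D.okNums ns = true)
    (hk : PermData.okCovered idx ns (knownWords edges ws) = true) :
    PresentedGroup (coxRelators edges ∪ {r | r ∈ extra}) →* Equiv.Perm (Fin D.n) :=
  PresentedGroup.toGroup (f := fun x => D.genPerm h (idx x)) (by
    have hw := PermData.word_eq_one h idx hns hk
    rintro r (⟨x, hx, y, hy, rfl⟩ | hr)
    · have := hw (pairWord edges x y)
        (List.mem_append_left _ (List.mem_flatMap.2 ⟨x, hx, List.mem_map.2 ⟨y, hy, rfl⟩⟩))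
      rw [pairWord, prod_map_replicate_pair] at this
      simpa using this
    · have e := hws (fun x => D.genPerm h (idx x)) fun x => PermData.genPerm_sq h _
      have : FreeGroup.lift (fun x => D.genPerm h (idx x)) r ∈
          ws.map fun w => (w.map fun x => D.genPerm h (idx x)).prod :=
        e ▸ List.mem_map.2 ⟨r, hr, rfl⟩
      obtain ⟨w, hwm, e'⟩ := List.mem_map.1 this
      rw [← e']
      exact hw w (List.mem_append_right _ hwm))

variable {D idx}

theorem rep_of (h : D.okInvol = true) (hws : WordsFor extra ws)
    {ns : List (List Nat)} (hns : D.okNums ns = true)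
    (hk : PermData.okCovered idx ns (knownWords edges ws) = true) (x : α) :
    rep D idx h hws hns hk (pgen edges extra x) = D.genPerm h (idx x) := by
  simp [rep, pgen]

theorem le_card (h : D.okInvol = true) (hws : WordsFor extra ws)
    {ns : List (List Nat)} (hns : D.okNums ns = true)
    (hk : PermData.okCovered idx ns (knownWords edges ws) = true)
    (hidx : ∀ k < D.g, ∃ x, idx x = k)
    (hw : D.okWords D.g D.words = true) (ls : List Level) (hl : D.okLevels [] ls = true)
    [Finite (PresentedGroup (coxRelators edges ∪ {r | r ∈ extra}))] :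
    (ls.map Level.len).prod ≤ Nat.card (PresentedGroup (coxRelators edges ∪ {r | r ∈ extra})) := by
  refine (PermData.le_card (PermData.interp h) hw ls hl).trans ?_
  refine (Nat.le_of_dvd Nat.card_pos (Subgroup.card_dvd_of_le
    (K := (rep D idx h hws hns hk).range) ?_)).trans
    (Nat.card_le_card_of_surjective _ (rep D idx h hws hns hk).rangeRestrict_surjective)
  rw [PermData.grp, Subgroup.closure_le]
  rintro _ ⟨k, hk', rfl⟩
  obtain ⟨x, rfl⟩ := hidx k hk'
  exact ⟨pgen edges extra x, rep_of h hws hns hk x⟩

end Rep

end CfsgLib.PresCert
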