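import Cfsg.Agent.Lib.PresCert.Wide

/-!
When the order of a permutation group is the product of the certified orbit lengths along a base,
only the identity fixes the base.
-/

namespace CfsgLib.PresCert.Wide

namespace PermData

open Equiv

variable {D : PermData} (I : Interp D)

/-- lower bound for the stabilisers keeping track of the pointwise stabiliser of the base -/
theorem levels_bound_fix (hw : D.okWords D.g D.words = true) :
    ∀ (ls : List Level) (bs : List Nat), D.okLevels bs ls = true →
      (ls.map Level.len).prod * Nat.card (fixing I ((ls.map Level.base).reverse ++ bs)) ≤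
        Nat.card (fixing I bs)
  | [], bs, _ => by
    simp
  | L :: ls, bs, h => by
    simp only [okLevels, okOrbit, Bool.and_eq_true, List.all_eq_true, List.mem_range, Nat.blt_eq,
      Nat.beq_eq, Bool.or_eq_true] at h
    obtain ⟨⟨⟨⟨⟨⟨⟨⟨hlen, horb0⟩, hbase⟩, hpos0⟩, hgens⟩, horb'⟩, hfix⟩, -⟩, hrest⟩ := h
    have horb := fun p hp => allBelow_spec horb' p hp
    simp only [Bool.and_eq_true, Bool.or_eq_true, Nat.blt_eq, Nat.beq_eq] at horb
    have ih := levels_bound_fix hw ls _ hrest
    let b : Fin D.n := ⟨L.base, hbase⟩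
    let K := fixing I bs
    -- every orbit point is an image of the base point
    have key : ∀ p, p < L.len → ∃ σ ∈ K, ((σ b : Fin D.n) : Nat) = Nat.land (L.orb.word p) 65535 := by
      intro p
      induction p using Nat.strong_induction_on with
      | _ p ihp =>
        intro hp
        obtain ⟨-, hp0 | ⟨⟨hpar, hk⟩, himg⟩⟩ := horb p hp
        · subst hp0
          exact ⟨1, one_mem _, by rw [horb0]; rfl⟩
        obtain ⟨σ, hσ, eσ⟩ := ihp _ hpar (hpar.trans hp)
        have hmem : L.gens.getD (Nat.shiftRight (L.orb.word p) 32) 0 ∈ L.gens := by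
          rw [List.getD_eq_getElem?_getD, List.getElem?_eq_getElem hk]
          exact List.getElem_mem hk
        obtain ⟨τ, hτ, eτ⟩ := elem_exists I hw _ (hgens _ hmem)
        have hτK : τ ∈ K := ⟨hτ, fun i hi => Fin.ext (by rw [eτ, hfix _ hmem i hi])⟩
        exact ⟨τ * σ, mul_mem hτK hσ, by rw [Perm.mul_apply, eτ, eσ, himg]⟩
    choose σ hσ eσ using key
    let φ : Fin L.len × fixing I (L.base :: bs) → K := fun q =>
      ⟨σ q.1 q.1.2 * (q.2 : Perm (Fin D.n)), mul_mem (hσ _ _)
        ⟨q.2.2.1, fun i hi => q.2.2.2 i (List.mem_cons_of_mem _ hi)⟩⟩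
    have hφ : Function.Injective φ := by
      rintro ⟨p, τ⟩ ⟨p', τ'⟩ h
      have h' : σ p p.2 * (τ : Perm (Fin D.n)) = σ p' p'.2 * (τ' : Perm (Fin D.n)) :=
        congrArg Subtype.val h
      have hb : (τ : Perm (Fin D.n)) b = b := τ.2.2 b (List.mem_cons_self ..)
      have hb' : (τ' : Perm (Fin D.n)) b = b := τ'.2.2 b (List.mem_cons_self ..)
      have hp : (p : Nat) = p' := by
        have e := congrArg (fun π : Perm (Fin D.n) => ((π b : Fin D.n) : Nat)) h'
        simp only [Perm.mul_apply, hb, hb', eσ] at e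
        rw [← (horb p p.2).1.2, ← (horb p' p'.2).1.2, e]
      obtain rfl : p = p' := Fin.ext hp
      exact Prod.ext rfl (Subtype.ext (mul_left_cancel h'))
    have hc := Nat.card_le_card_of_injective φ hφ
    rw [Nat.card_prod, Nat.card_eq_fintype_card, Fintype.card_fin] at hc
    simpa [mul_assoc] using le_trans (Nat.mul_le_mul_left _ ih) hc

/-- An element fixing every base point is trivial. -/
theorem eq_one_of_fix (hw : D.okWords D.g D.words = true) (ls : List Level)
    (hl : D.okLevels [] ls = true) (hc : Nat.card (grp I) ≤ (ls.map Level.len).prod)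
    (σ : Perm (Fin D.n)) (hσ : σ ∈ grp I)
    (hfix : ∀ i : Fin D.n, (i : Nat) ∈ ls.map Level.base → σ i = i) : σ = 1 := by
  set F := fixing I ((ls.map Level.base).reverse ++ []) with hF
  have h1 := levels_bound_fix I hw ls [] hl
  rw [← hF] at h1
  have h2 : Nat.card (fixing I []) ≤ Nat.card (grp I) :=
    Nat.card_le_card_of_injective (fun τ : fixing I [] => (⟨τ, τ.2.1⟩ : grp I))
      fun a b h => Subtype.ext (congrArg Subtype.val h :)
  have h3 : (ls.map Level.len).prod * Nat.card F ≤ (ls.map Level.len).prod * 1 := by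
    rw [mul_one]; exact h1.trans (h2.trans hc)
  have hpos : 0 < (ls.map Level.len).prod := lt_of_lt_of_le Nat.card_pos hc
  have hmem : σ ∈ F := ⟨hσ, fun i hi => hfix i (by simpa using hi)⟩
  have hsub : Subsingleton F :=
    (Nat.card_eq_one_iff_unique.1 (le_antisymm (Nat.le_of_mul_le_mul_left h3 hpos) Nat.card_pos)).1
  exact congrArg Subtype.val (Subsingleton.elim (⟨σ, hmem⟩ : F) 1)

end PermData

end CfsgLib.PresCert.Wide
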