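import Cfsg.Agent.Lib.PresCert.Wide

/-!
Checking single words, and high powers of a word by means of auxiliary elements.
-/

namespace CfsgLib.PresCert.Wide

namespace PermData

variable (D : PermData)

/-- a single further element is the product it claims to be -/
noncomputable def okWord (k : Nat) (w : List Nat) : Bool :=
  (w.all fun j => Nat.blt j k) && allBelow D.n fun i => Nat.beq (D.app w i) (D.img k i)

/-- the predicate of a checked word -/
noncomputable def wordAt (k : Nat) (w : List Nat) (i : Nat) : Bool := Nat.beq (D.app w i) (D.img k i)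

/-- the predicate of a trivial word -/
noncomputable def idAt (w : List Nat) (i : Nat) : Bool := Nat.beq (D.app w i) i

/-- the predicate of an involution -/
noncomputable def invAt (k i : Nat) : Bool :=
  let j := D.img k i
  Nat.blt j D.n && Nat.beq (D.img k j) i

/-- the predicate of a closed orbit -/
noncomputable def closedAt (L : Level) (k p : Nat) : Bool :=
  let q := D.img k (Nat.land (L.orb.word p) (nat_lit 65535))
  let r := L.pos.word q
  Nat.blt r L.len && Nat.beq (Nat.land (L.orb.word r) (nat_lit 65535)) q

theorem okWords_cons {k : Nat} {w : List Nat} {l : List (List Nat)} (h : D.okWord k w = true)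
    (h' : D.okWords (k + 1) l = true) : D.okWords k (w :: l) = true := by
  simp only [okWords, okWord, Bool.and_eq_true] at h ⊢
  exact ⟨h, h'⟩

variable {D}

theorem app_append (u v : List Nat) (i : Nat) : D.app (u ++ v) i = D.app v (D.app u i) := by
  induction u generalizing i with
  | nil => simp [app]
  | cons k u ih => simp [app, ih]

theorem app_lt (h : D.okInvol = true) : ∀ (w : List Nat), (∀ k ∈ w, k < D.g) → ∀ i < D.n,
    D.app w i < D.n := by
  intro w
  induction w with
  | nil => intro _ i hi; simpa [app] using hi
  | cons k w ih =>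
    intro hw i hi
    exact ih (fun j hj => hw j (List.mem_cons_of_mem _ hj)) _
      (okInvol_spec h (hw k (List.mem_cons_self ..)) ⟨i, hi⟩).1

theorem app_flatten (h : D.okInvol = true) {w : List Nat} (hg : ∀ k ∈ w, k < D.g) {k : Nat}
    (hw : D.okWord k w = true) : ∀ m, ∀ i < D.n,
      D.app (List.replicate m w).flatten i = D.app (List.replicate m k) i := by
  simp only [okWord, Bool.and_eq_true] at hw
  intro m
  induction m with
  | zero => intro i _; rfl
  | succ m ih =>
    intro i hi
    have e := Nat.eq_of_beq_eq_true (allBelow_spec hw.2 i hi)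
    rw [List.replicate_succ, List.flatten_cons, app_append, ih _ (app_lt h w hg i hi), e,
      List.replicate_succ, app]

theorem app_pow {j k p : Nat} (hw : D.okWord k (List.replicate p j) = true)
    (hj : ∀ i < D.n, D.img j i < D.n) : ∀ m, ∀ i < D.n,
      D.app (List.replicate (p * m) j) i = D.app (List.replicate m k) i := by
  simp only [okWord, Bool.and_eq_true] at hw
  have hlt : ∀ l, ∀ i < D.n, D.app (List.replicate l j) i < D.n := by
    intro l
    induction l with
    | zero => intro i hi; simpa [app] using hi
    | succ l ih => intro i hi; rw [List.replicate_succ, app]; exact ih _ (hj i hi)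
  intro m
  induction m with
  | zero => intro i _; rfl
  | succ m ih =>
    intro i hi
    rw [Nat.mul_succ, Nat.add_comm, List.replicate_add, app_append, ih _ (hlt p i hi),
      Nat.eq_of_beq_eq_true (allBelow_spec hw.2 i hi), List.replicate_succ, app]

theorem allBelow_of_forall {n : Nat} {P : Nat → Bool} (hn : n ≤ 16777216)
    (hP : ∀ i < n, P i = true) : allBelow n P = true := by
  have key : ∀ d lo, allBin n P d lo = true := by
    intro d
    induction d with
    | zero =>
      intro lo
      cases hb : Nat.ble n lo with
      | true => simp [allBin, hb]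
      | false =>
        have : lo < n := by
          by_contra hc
          rw [Nat.ble_eq_true_of_le (Nat.le_of_not_lt hc)] at hb
          exact Bool.noConfusion hb
        simp [allBin, hb, hP lo this]
    | succ d ih =>
      intro lo
      change (Bool.rec (Bool.rec false (allBin n P d (lo + Nat.shiftLeft 1 d)) (allBin n P d lo))
        true (Nat.ble n lo) : Bool) = true
      cases Nat.ble n lo with
      | true => rfl
      | false => rw [ih lo]; exact ih _
  simp [allBelow, Nat.ble_eq_true_of_le hn, key]

theorem allBelow_of_chunks {n d m : Nat} {P : Nat → Bool} (hn : n ≤ 16777216) (hm : n ≤ m * 2 ^ d)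
    (h : ∀ j < m, allBin n P d (j * 2 ^ d) = true) : allBelow n P = true := by
  refine allBelow_of_forall hn fun i hi => ?_
  have hd : 0 < 2 ^ d := Nat.two_pow_pos d
  have h1 := Nat.div_add_mod' i (2 ^ d)
  have h2 := Nat.mod_lt i hd
  have hj : i / 2 ^ d < m := by
    rw [Nat.div_lt_iff_lt_mul hd]
    exact lt_of_lt_of_le hi hm
  exact allBin_spec n P d _ (h _ hj) i (by omega) hi (by omega)

/-- A word repeated `p * q` times moves no point, if the power `p` is tabulated and its power `q`
moves no point. -/
theorem okId_power (h : D.okInvol = true) {w : List Nat} (hg : ∀ k ∈ w, k < D.g) {k l p q : Nat}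
    (hw : D.okWord k w = true) (hp : D.okWord l (List.replicate p k) = true)
    (hq : D.okId (List.replicate q l) = true) :
    D.okId (List.replicate (p * q) w).flatten = true := by
  have hk : ∀ i < D.n, D.img k i < D.n := by
    intro i hi
    simp only [okWord, Bool.and_eq_true] at hw
    rw [← Nat.eq_of_beq_eq_true (allBelow_spec hw.2 i hi)]
    exact app_lt h w hg i hi
  have key : ∀ i < D.n, D.app (List.replicate (p * q) w).flatten i = i := by
    intro i hi
    rw [app_flatten h hg hw _ i hi, app_pow hp hk _ i hi]
    exact Nat.eq_of_beq_eq_true (allBelow_spec hq i hi)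
  simp only [okId] at hq ⊢
  have hn : D.n ≤ 16777216 := by
    by_contra hc
    cases hb : Nat.ble D.n 16777216 with
    | true => exact hc (Nat.le_of_ble_eq_true hb)
    | false => simp [allBelow, hb] at hq
  exact allBelow_of_forall hn fun i hi => by simp [key i hi]

theorem okWord_of {k : Nat} {w : List Nat} (hw : (w.all fun j => Nat.blt j k) = true)
    (h : allBelow D.n (D.wordAt k w) = true) : D.okWord k w = true := by
  rw [okWord, Bool.and_eq_true]
  exact ⟨hw, h⟩

theorem okId_of {w : List Nat} (h : allBelow D.n (D.idAt w) = true) : D.okId w = true := h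

theorem okInvol_of (hg : D.g ≤ 16777216) (h : ∀ k < D.g, allBelow D.n (D.invAt k) = true) :
    D.okInvol = true :=
  allBelow_of_forall hg h

theorem okClosed_of (L : Level) (h : ∀ k ∈ L.gens, allBelow L.len (D.closedAt L k) = true) :
    D.okClosed L = true := by
  rw [okClosed, List.all_eq_true]
  exact h

theorem okLevels_cons {bs : List Nat} {L : Level} {ls : List Level} (h1 : D.okOrbit L = true)
    (h2 : (L.gens.all fun k => bs.all fun b => Nat.beq (D.img k b) b) = true)
    (h3 : (ls.all fun L' => L'.gens.all fun k => Nat.beq (D.img k L.base) L.base) = true)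
    (h4 : D.okLevels (L.base :: bs) ls = true) : D.okLevels bs (L :: ls) = true := by
  simp only [okLevels, Bool.and_eq_true]
  exact ⟨⟨⟨h1, h2⟩, h3⟩, h4⟩

/-- Every point of a checked orbit of full length is an image of the base point. -/
theorem exists_image_of_full (I : Interp D) (L : Level) (ho : D.okOrbit L = true)
    (hg : ∀ k ∈ L.gens, k < D.g) (hlen : L.len = D.n) (hb : L.base < D.n) (i : Fin D.n) :
    ∃ σ ∈ grp I, σ ⟨L.base, hb⟩ = i := by
  simp only [okOrbit, Bool.and_eq_true, List.all_eq_true, Nat.blt_eq, Nat.beq_eq] at ho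
  obtain ⟨⟨⟨⟨⟨hl, horb0⟩, -⟩, -⟩, -⟩, horb'⟩ := ho
  have horb := fun p hp => allBelow_spec horb' p hp
  simp only [Bool.and_eq_true, Bool.or_eq_true, Nat.blt_eq, Nat.beq_eq] at horb
  let pt : Fin L.len → Fin D.n := fun p => ⟨Nat.land (L.orb.word p) 65535, (horb p p.2).1.1⟩
  have hinj : Function.Injective pt := fun p q h => Fin.ext (by
    rw [← (horb p p.2).1.2, ← (horb q q.2).1.2]
    exact congrArg _ (congrArg Fin.val h))
  have hsurj : Function.Surjective pt :=
    ((Fintype.bijective_iff_injective_and_card pt).2 ⟨hinj, by simp [hlen]⟩).2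
  obtain ⟨⟨p, hp⟩, rfl⟩ := hsurj i
  induction p using Nat.strong_induction_on with
  | _ p ih =>
    obtain ⟨-, hp0 | ⟨⟨hpar, hk⟩, himg⟩⟩ := horb p hp
    · subst hp0
      exact ⟨1, one_mem _, Fin.ext horb0.symm⟩
    obtain ⟨σ, hσ, eσ⟩ := ih _ hpar (hpar.trans hp)
    have hmem : L.gens.getD (Nat.shiftRight (L.orb.word p) 32) 0 ∈ L.gens := by
      rw [List.getD_eq_getElem?_getD, List.getElem?_eq_getElem hk]
      exact List.getElem_mem hk
    refine ⟨_, mul_mem (Subgroup.subset_closure ⟨_, hg _ hmem, rfl⟩) hσ, Fin.ext ?_⟩
    rw [Equiv.Perm.mul_apply, eσ, I.gen_img _ (hg _ hmem)]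
    exact himg

end PermData

end CfsgLib.PresCert.Wide
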