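import Cfsg.Agent.Lib.PresCert.CosetAction

/-!
A simplicity criterion for a transitive group whose degree is divisible by a prime dividing the
group order exactly once.
-/

namespace CfsgLib.PresCert

/-- If every nontrivial normal subgroup has order divisible by `p`, `p ^ 2` does not divide the
order, and some generators, which normally generate, are products of two elements of order
dividing `p`, the group is simple. -/
theorem isSimpleGroup_of_pElements {G : Type*} [Group G] [Finite G] [Nontrivial G] (p : ℕ)
    [Fact p.Prime] (hp2 : ¬ p ^ 2 ∣ Nat.card G)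
    (hdiv : ∀ N : Subgroup G, N.Normal → N ≠ ⊥ → p ∣ Nat.card N)
    (u v : G) (hu : u ^ p = 1) (hv : v ^ p = 1)
    (hgen : ∀ N : Subgroup G, N.Normal → v * u⁻¹ ∈ N → N = ⊤) : IsSimpleGroup G := by
  refine { eq_bot_or_eq_top_of_normal := fun N hN => ?_ }
  by_cases hb : N = ⊥
  · exact Or.inl hb
  right
  have hmem : ∀ x : G, x ^ p = 1 → x ∈ N := by
    intro x hx
    have hidx : ¬ p ∣ N.index := by
      intro h
      exact hp2 (by rw [← N.card_mul_index, pow_two]; exact mul_dvd_mul (hdiv N hN hb) h)
    have h1 : (QuotientGroup.mk' N x) ^ p = 1 := by rw [← map_pow, hx, map_one]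
    have h2 : orderOf (QuotientGroup.mk' N x) ∣ Nat.card (G ⧸ N) := orderOf_dvd_natCard _
    rw [← Subgroup.index_eq_card] at h2
    have h3 : orderOf (QuotientGroup.mk' N x) ∣ p := orderOf_dvd_of_pow_eq_one h1
    rcases (Fact.out : p.Prime).eq_one_or_self_of_dvd _ h3 with h | h
    · exact (QuotientGroup.eq_one_iff x).1 (orderOf_eq_one_iff.1 h)
    · exact absurd (h ▸ h2) hidx
  exact hgen N hN (N.mul_mem (hmem v hv) (N.inv_mem (hmem u hu)))

/-- For a faithful transitive action on the cosets of `H`, a nontrivial normal subgroup has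
transitive image, provided every `H`-invariant set through the base point whose size divides the
degree is trivial or everything. -/
theorem dvd_card_normal {G : Type*} [Group G] [Finite G] {n : ℕ} (π : G →* Equiv.Perm (Fin n))
    (hinj : Function.Injective π) (i₀ : Fin n) (H : Subgroup G) (hfix : ∀ h ∈ H, π h i₀ = i₀)
    (hidx : H.index = n) (htrans : ∀ i, ∃ g, π g i₀ = i)
    (hinv : ∀ S : Set (Fin n), i₀ ∈ S → (∀ h ∈ H, ∀ i ∈ S, π h i ∈ S) → S.ncard ∣ n →
      S = {i₀} ∨ S = Set.univ)
    (N : Subgroup G) (hN : N.Normal) (hne : N ≠ ⊥) : n ∣ Nat.card N := by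
  haveI := hN
  obtain ⟨φ, hφ⟩ := coset_bijection π H i₀ hfix hidx htrans
  have hstab : ∀ g, π g i₀ = i₀ → g ∈ H := by
    intro g hg
    have : φ (g : G ⧸ H) = φ ((1 : G) : G ⧸ H) := by rw [hφ, hφ, hg, map_one]; rfl
    simpa using QuotientGroup.eq.1 (φ.injective this).symm
  let S : Set (Fin n) := {i | ∃ x ∈ N, π x i₀ = i}
  have hS1 : i₀ ∈ S := ⟨1, one_mem _, by simp⟩
  have hS2 : ∀ h ∈ H, ∀ i ∈ S, π h i ∈ S := by
    rintro h hh _ ⟨x, hx, rfl⟩
    refine ⟨h * x * h⁻¹, hN.conj_mem x hx h, ?_⟩
    rw [map_mul, map_mul, Equiv.Perm.mul_apply, Equiv.Perm.mul_apply,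
      hfix _ (H.inv_mem hh)]
  have hcard : Nat.card (H.subgroupOf N) * S.ncard = Nat.card N := by
    let f : N ⧸ H.subgroupOf N → S := Quotient.lift (fun x : N => ⟨π x i₀, x, x.2, rfl⟩) (by
      intro a b hab
      have hab' : (QuotientGroup.leftRel (H.subgroupOf N)) a b := hab
      rw [QuotientGroup.leftRel_apply, Subgroup.mem_subgroupOf] at hab'
      apply Subtype.ext
      show π a i₀ = π b i₀
      conv_rhs => rw [show (b : G) = a * ((a : G)⁻¹ * b) by simp]
      rw [map_mul, Equiv.Perm.mul_apply]
      exact congrArg _ (hfix _ (by simpa using hab')).symm)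
    have hb : Function.Bijective f := by
      constructor
      · intro q r h
        induction q using QuotientGroup.induction_on with
        | H a => ?_
        induction r using QuotientGroup.induction_on with
        | H b => ?_
        refine QuotientGroup.eq.2 ?_
        rw [Subgroup.mem_subgroupOf]
        refine hstab _ ?_
        have h' : π (a : G) i₀ = π (b : G) i₀ := congrArg Subtype.val h
        simp [Equiv.Perm.mul_apply, ← h']
      · rintro ⟨_, x, hx, rfl⟩
        exact ⟨((⟨x, hx⟩ : N) : N ⧸ H.subgroupOf N), rfl⟩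
    rw [← (H.subgroupOf N).card_mul_index, Subgroup.index_eq_card, Nat.card_eq_of_bijective f hb,
      Nat.card_coe_set_eq]
  have hdvd : S.ncard ∣ n := by
    have hle : H ≤ H ⊔ N := le_sup_left
    have hS : S.ncard = H.relIndex N := by
      have := (H.subgroupOf N).card_mul_index
      rw [← hcard] at this
      exact (Nat.eq_of_mul_eq_mul_left Nat.card_pos this).symm
    have : S.ncard = H.relIndex (H ⊔ N) := by
      -- compare orders inside `H ⊔ N`
      have key : ∀ A B : Subgroup G, Nat.card (A ⊓ B : Subgroup G) * A.relIndex B = Nat.card B := by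
        intro A B
        have := (A.subgroupOf B).card_mul_index
        rwa [← Subgroup.inf_subgroupOf_right,
          Nat.card_congr (Subgroup.subgroupOfEquivOfLe (inf_le_right : A ⊓ B ≤ B)).toEquiv,
          Subgroup.inf_subgroupOf_right] at this
      have e1 := key H (H ⊔ N)
      have e2 := key N (H ⊔ N)
      rw [inf_eq_left.2 (le_sup_left : H ≤ H ⊔ N)] at e1
      rw [inf_eq_left.2 (le_sup_right : N ≤ H ⊔ N), Subgroup.relIndex_sup_right] at e2
      have e3 := key H N
      have e4 := key N H
      rw [inf_comm] at e4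
      rw [hS]
      apply Nat.eq_of_mul_eq_mul_left (Nat.card_pos (α := H))
      rw [e1, ← e2]
      rw [← e4, ← e3]
      ring
    rw [this, ← hidx]
    exact Subgroup.relIndex_dvd_index_of_le hle
  rcases hinv S hS1 hS2 hdvd with h | h
  · exfalso
    refine hne ((Subgroup.eq_bot_iff_forall N).2 fun x hx => hinj ?_)
    rw [map_one]
    refine Equiv.ext fun i => ?_
    obtain ⟨g, rfl⟩ := htrans i
    have : π (g⁻¹ * x * g) i₀ ∈ S := ⟨_, hN.conj_mem' x hx g, rfl⟩
    rw [h, Set.mem_singleton_iff, map_mul, map_mul, Equiv.Perm.mul_apply, Equiv.Perm.mul_apply,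
      map_inv, Equiv.Perm.inv_eq_iff_eq] at this
    rw [Equiv.Perm.one_apply]
    exact this
  · rw [← hcard, h, Set.ncard_univ, Nat.card_fin]
    exact dvd_mul_left _ _

end CfsgLib.PresCert
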