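import Cfsg.Agent.Lib.PresCert.PermHom

/-!
Exact orbit lengths along a base, and counting the elements of a permutation group which conjugate
a given element to a given power of it, by sifting the images of base points lying on its cycles.
-/

set_option autoImplicit false

namespace CfsgLib.PresCert

open Equiv

/-- pass the numeral of a number to a function -/
noncomputable def force {α : Type} (q : Nat) (f : Nat → α) : α :=
  Nat.rec (motive := fun _ => α) (f (nat_lit 0)) (fun m _ => f (Nat.add m (nat_lit 1))) q

@[simp] theorem force_eq {α : Type} (q : Nat) (f : Nat → α) : force q f = f q := by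
  cases q <;> rfl

/-- sum of the values at `i` with `lo ≤ i < n` and `i < lo + 2 ^ d` -/
noncomputable def sumBin (n : Nat) (f : Nat → Nat) (d : Nat) : Nat → Nat :=
  Nat.rec (motive := fun _ => Nat → Nat)
    (fun l => Bool.rec (f l) (nat_lit 0) (Nat.ble n l))
    (fun k ih l => Bool.rec (Nat.add (ih l) (ih (Nat.add l (Nat.shiftLeft (nat_lit 1) k))))
      (nat_lit 0) (Nat.ble n l)) d

theorem sumBin_eq (n : Nat) (f : Nat → Nat) :
    ∀ (d lo : Nat), sumBin n f d lo = ∑ i ∈ Finset.Ico lo (min n (lo + 2 ^ d)), f i := by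
  intro d
  induction d with
  | zero =>
    intro lo
    cases hb : Nat.ble n lo with
    | true =>
      have := Nat.le_of_ble_eq_true hb
      simp [sumBin, hb, this]
    | false =>
      have : lo < n := by
        by_contra h
        rw [Nat.ble_eq_true_of_le (not_lt.1 h)] at hb
        exact Bool.noConfusion hb
      simp [sumBin, hb, min_eq_right (show lo + 1 ≤ n from this)]
  | succ k ih =>
    intro lo
    show (Bool.rec (sumBin n f k lo + sumBin n f k (lo + Nat.shiftLeft 1 k)) 0 (Nat.ble n lo) : Nat) = _
    cases hb : Nat.ble n lo with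
    | true =>
      have := Nat.le_of_ble_eq_true hb
      simp [this]
    | false =>
      have : lo < n := by
        by_contra h
        rw [Nat.ble_eq_true_of_le (not_lt.1 h)] at hb
        exact Bool.noConfusion hb
      have e : lo + Nat.shiftLeft 1 k = lo + 2 ^ k := by simp [Nat.shiftLeft_eq]
      show sumBin n f k lo + sumBin n f k (lo + Nat.shiftLeft 1 k) = _
      rw [e, ih, ih]
      have h2 : 2 ^ (k + 1) = 2 ^ k + 2 ^ k := by rw [pow_succ]; omega
      rcases le_or_gt n (lo + 2 ^ k) with hn | hn
      · rw [Finset.Ico_eq_empty (a := lo + 2 ^ k) (by omega), Finset.sum_empty, add_zero]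
        congr 2; omega
      · rw [min_eq_right hn.le, Finset.sum_Ico_consecutive f (by omega) (by omega)]
        congr 2; omega

/-- sum of the values below `n` (zero beyond `2 ^ 24`) -/
noncomputable def sumBelow (n : Nat) (f : Nat → Nat) : Nat := sumBin n f (nat_lit 24) (nat_lit 0)

theorem sumBelow_eq {n : Nat} (hn : n ≤ 2 ^ 24) (f : Nat → Nat) :
    sumBelow n f = ∑ i ∈ Finset.range n, f i := by
  rw [sumBelow, sumBin_eq, Nat.zero_add, min_eq_left hn, Finset.range_eq_Ico]

namespace PermData

variable (D : PermData)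

/-- index of the inverse: the further elements come in pairs -/
noncomputable def invIdx (k : Nat) : Nat :=
  Bool.rec (Nat.add D.g (Nat.xor (Nat.sub k D.g) (nat_lit 1))) k (Nat.blt k D.g)

/-- the pairing gives inverses -/
noncomputable def okInv : Bool :=
  allBelow (D.g + D.words.length) fun k =>
    Nat.blt (D.invIdx k) (D.g + D.words.length) &&
      allBelow D.n fun i => Nat.beq (D.img (D.invIdx k) (D.img k i)) i

/-- apply a word, first letter first, reducing to numerals -/
noncomputable def appF (w : List Nat) : Nat → Nat :=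
  List.rec (motive := fun _ => Nat → Nat) (fun i => i) (fun k _ ih i => force (D.img k i) ih) w

/-- apply the inverse of a word -/
noncomputable def appInvF (w : List Nat) : Nat → Nat :=
  List.rec (motive := fun _ => Nat → Nat) (fun i => i)
    (fun k _ ih i => force (ih i) fun j => force (D.invIdx k) fun k' => D.img k' j) w

/-- position data of an orbit point -/
noncomputable def pt (L : Level) (p : Nat) : Nat := Nat.land (L.orb.word p) (nat_lit 65535)

/-- pass the word leading to an orbit position, put before `acc`, to `c` -/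
noncomputable def pathK {α : Type} (L : Level) (fuel : Nat) :
    Nat → List Nat → (List Nat → α) → α :=
  Nat.rec (motive := fun _ => Nat → List Nat → (List Nat → α) → α) (fun _ acc c => c acc)
    (fun _ ih p acc c => Bool.rec
      (force (Nat.land (Nat.shiftRight (L.orb.word p) (nat_lit 16)) (nat_lit 65535)) fun q =>
        force (L.gens.getD (Nat.shiftRight (L.orb.word p) (nat_lit 32)) (nat_lit 0)) fun k =>
          ih q (k :: acc) c)
      (c acc) (Nat.beq p (nat_lit 0))) fuel

/-- the fuel for walks to the root -/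
abbrev depth : Nat := 64

/-- the word leading to an orbit position -/
noncomputable def path (L : Level) (p : Nat) : List Nat := pathK L depth p [] fun w => w

theorem pathK_eq (L : Level) : ∀ (fuel : Nat) {α : Type} (p : Nat) (acc : List Nat)
    (c : List Nat → α),
    pathK L fuel p acc c = c (pathK L fuel p [] (fun w => w) ++ acc) := by
  intro fuel
  induction fuel with
  | zero => intros; rfl
  | succ m ih =>
    intro α p acc c
    cases hp : Nat.beq p 0 with
    | true => simp [pathK, hp]
    | false =>
      simp only [pathK, hp, force_eq] at ih ⊢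
      rw [ih _ (_ :: acc) c, ih (α := List Nat) _ [_] fun w => w, List.append_assoc, List.singleton_append]

theorem pathK_depth {α : Type} (L : Level) (p : Nat) (acc : List Nat) (c : List Nat → α) :
    pathK L depth p acc c = c (path L p ++ acc) := pathK_eq L depth p acc c

/-- the words of an orbit are in its generators and lead to its points -/
noncomputable def okPath (L : Level) : Bool :=
  allBelow L.len fun p =>
    ((path L p).all fun k => L.gens.contains k) && Nat.beq (D.appF (path L p) L.base) (pt L p)

/-- conditions on the image of a base point: none, or the image under a power of an earlier one -/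
abbrev Spec := List (Level × Option (Nat × Nat))

/-- powers of the element that is conjugated -/
noncomputable def powIdx (xs : List Nat) (p e : Nat) : Nat :=
  xs.getD (Nat.sub (Nat.mod e p) (nat_lit 1)) (nat_lit 0)

/-- the test at a leaf -/
noncomputable def leaf (a b : Nat) (w pre im : List Nat) : Bool :=
  (List.range pre.length).all fun j =>
    Nat.beq (D.appF w (D.img a (pre.getD j (nat_lit 0)))) (D.img b (im.getD j (nat_lit 0)))

/-- count the sifted candidates -/
noncomputable def count (xs : List Nat) (p k : Nat) (ls : Spec) :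
    List Nat → List Nat → List Nat → Nat :=
  List.rec (motive := fun _ => List Nat → List Nat → List Nat → Nat)
    (fun w pre im => force (powIdx xs p (nat_lit 1)) fun a => force (powIdx xs p k) fun b =>
      Bool.rec (nat_lit 0) (nat_lit 1) (D.leaf a b w pre im))
    (fun hd _ ih w pre im =>
      Option.rec (motive := fun _ => Nat)
        (sumBelow hd.1.len fun r => force (D.appF w (pt hd.1 r)) fun q =>
          pathK hd.1 depth r w fun w' => ih w' (pre ++ [hd.1.base]) (im ++ [q]))
        (fun se => force (powIdx xs p (Nat.mul k se.2)) fun b =>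
          force (D.img b (im.getD se.1 (nat_lit 0))) fun q =>
          force (D.appInvF w q) fun o => force (hd.1.pos.word o) fun r =>
          Bool.rec (nat_lit 0)
            (Bool.rec (nat_lit 0)
              (pathK hd.1 depth r w fun w' => ih w' (pre ++ [hd.1.base]) (im ++ [q]))
              (Nat.beq (pt hd.1 r) o))
            (Nat.blt r hd.1.len))
        hd.2) ls

/-- a base point with a condition is the stated image of an earlier one -/
noncomputable def okSpec (xs : List Nat) (p : Nat) (ls : Spec) : List Nat → Bool :=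
  List.rec (motive := fun _ => List Nat → Bool) (fun _ => true)
    (fun hd _ ih pre =>
      (Option.rec (motive := fun _ => Bool) true
        (fun se => Nat.blt se.1 pre.length && Nat.ble (nat_lit 1) se.2 && Nat.blt se.2 p &&
          Nat.beq (D.img (powIdx xs p se.2) (pre.getD se.1 (nat_lit 0))) hd.1.base) hd.2) &&
        ih (pre ++ [hd.1.base])) ls

/-- the listed elements are successive powers of the first -/
noncomputable def okPows (xs : List Nat) : Bool :=
  (xs.all fun k => Nat.blt k (D.g + D.words.length)) &&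
    allBelow (xs.length - 1) fun e => allBelow D.n fun i =>
      Nat.beq (D.img (xs.getD (e + 1) (nat_lit 0)) i)
        (D.img (xs.getD (nat_lit 0) (nat_lit 0)) (D.img (xs.getD e (nat_lit 0)) i))

/-- everything is in range -/
noncomputable def okRange : Bool :=
  allBelow (D.g + D.words.length) fun k => allBelow D.n fun i => Nat.blt (D.img k i) D.n

variable {D}
variable (I : Interp D) (hw : D.okWords D.g D.words = true)

/-- the permutation of an element of the tables -/
noncomputable def el (k : Nat) : Perm (Fin D.n) :=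
  if hk : k < D.g + D.words.length then (elem_exists I hw k hk).choose else 1

theorem el_mem (k : Nat) : el I hw k ∈ grp I := by
  rw [el]
  split
  · exact (elem_exists I hw k ‹_›).choose_spec.1
  · exact one_mem _

theorem el_img {k : Nat} (hk : k < D.g + D.words.length) (i : Fin D.n) :
    ((el I hw k i : Fin D.n) : Nat) = D.img k i := by
  rw [el, dif_pos hk]
  exact (elem_exists I hw k hk).choose_spec.2 i

/-- the permutation of a word, first letter first -/
noncomputable def pw : List Nat → Perm (Fin D.n)
  | [] => 1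
  | k :: w => pw w * el I hw k

theorem pw_append : ∀ u v : List Nat, pw I hw (u ++ v) = pw I hw v * pw I hw u
  | [], v => by simp [pw]
  | k :: u, v => by rw [List.cons_append, pw, pw, pw_append u v, mul_assoc]

theorem pw_mem : ∀ w : List Nat, pw I hw w ∈ grp I
  | [] => one_mem _
  | k :: w => mul_mem (pw_mem w) (el_mem I hw k)

theorem pw_apply : ∀ w : List Nat, (∀ k ∈ w, k < D.g + D.words.length) → ∀ i : Fin D.n,
    ((pw I hw w i : Fin D.n) : Nat) = D.appF w i
  | [], _, i => rfl
  | k :: w, h, i => by
    obtain ⟨hk, hw'⟩ := List.forall_mem_cons.1 h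
    rw [pw, Perm.mul_apply, pw_apply w hw', el_img I hw hk]
    show _ = force (D.img k i) (D.appF w)
    rw [force_eq]

theorem el_invIdx (hinv : D.okInv = true) {k : Nat} (hk : k < D.g + D.words.length) :
    D.invIdx k < D.g + D.words.length ∧ el I hw (D.invIdx k) = (el I hw k)⁻¹ := by
  have h := allBelow_spec hinv k hk
  simp only [Bool.and_eq_true, Nat.blt_eq] at h
  obtain ⟨h1, h2⟩ := h
  refine ⟨h1, eq_inv_of_mul_eq_one_left (Equiv.ext fun i => Fin.ext ?_)⟩
  rw [Perm.mul_apply, el_img I hw h1, el_img I hw hk]
  exact Nat.eq_of_beq_eq_true (allBelow_spec h2 i i.2)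

theorem appInvF_eq (hinv : D.okInv = true) : ∀ w : List Nat,
    (∀ k ∈ w, k < D.g + D.words.length) → ∀ i : Fin D.n,
      D.appInvF w i = (((pw I hw w)⁻¹ i : Fin D.n) : Nat)
  | [], _, i => by simp [pw, appInvF]
  | k :: w, h, i => by
    obtain ⟨hk, hw'⟩ := List.forall_mem_cons.1 h
    obtain ⟨h1, h2⟩ := el_invIdx I hw hinv hk
    show force (D.appInvF w i) (fun j => force (D.invIdx k) fun k' => D.img k' j) = _
    rw [force_eq, force_eq, appInvF_eq hinv w hw' i, ← el_img I hw h1, h2, pw, mul_inv_rev,
      Perm.mul_apply]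

theorem okPath_spec {L : Level} (h : D.okPath L = true) {p : Nat} (hp : p < L.len) :
    (∀ k ∈ path L p, k ∈ L.gens) ∧ D.appF (path L p) L.base = pt L p := by
  have := allBelow_spec h p hp
  simpa [List.all_eq_true] using this

theorem path_lt {L : Level} (hL : D.okOrbit L = true) (h : D.okPath L = true) {p : Nat}
    (hp : p < L.len) : ∀ k ∈ path L p, k < D.g + D.words.length := by
  intro k hk
  simp only [okOrbit, Bool.and_eq_true, List.all_eq_true, Nat.blt_eq] at hL
  exact hL.1.2 k ((okPath_spec h hp).1 k hk)

/-- elements moving a point to distinct images multiply the order of its stabiliser -/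
theorem fibre_card_le {bs : List Nat} {b : Fin D.n} {m : ℕ} (f : Fin m → fixing I bs)
    (hf : Function.Injective fun j => (f j : Perm (Fin D.n)) b) :
    m * Nat.card (fixing I ((b : Nat) :: bs)) ≤ Nat.card (fixing I bs) := by
  have := Nat.card_le_card_of_injective
    (fun q : Fin m × fixing I ((b : Nat) :: bs) => (⟨(f q.1 : Perm (Fin D.n)) * q.2,
      mul_mem (f q.1).2 ⟨q.2.2.1, fun i hi => q.2.2.2 i (List.mem_cons_of_mem _ hi)⟩⟩ : fixing I bs))
    (by
      rintro ⟨j, t⟩ ⟨j', t'⟩ he
      have he' : (f j : Perm (Fin D.n)) * t = (f j' : Perm (Fin D.n)) * t' :=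
        congrArg Subtype.val he
      have hb : (t : Perm (Fin D.n)) b = b := t.2.2 b (List.mem_cons_self ..)
      have hb' : (t' : Perm (Fin D.n)) b = b := t'.2.2 b (List.mem_cons_self ..)
      obtain rfl : j = j' := hf (by
        have := Equiv.congr_fun he' b
        simpa only [Perm.mul_apply, hb, hb'] using this)
      exact Prod.ext rfl (Subtype.ext (mul_left_cancel he')))
  rwa [Nat.card_prod, Nat.card_eq_fintype_card, Fintype.card_fin] at this

/-- With the orbit lengths multiplying to the order, the listed orbit is complete and the same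
holds one step further. -/
theorem level_exact {bs : List Nat} {L : Level} {ls : List Level}
    (h : D.okLevels bs (L :: ls) = true) (hp : D.okPath L = true)
    (hc : Nat.card (fixing I bs) ≤ ((L :: ls).map Level.len).prod) :
    Nat.card (fixing I (L.base :: bs)) ≤ (ls.map Level.len).prod ∧
    ∀ σ ∈ fixing I bs, ∀ b : Fin D.n, (b : Nat) = L.base → ∃ r < L.len,
      ((σ b : Fin D.n) : Nat) = pt L r ∧ L.pos.word (pt L r) = r ∧
      (pw I hw (path L r))⁻¹ * σ ∈ fixing I (L.base :: bs) := by
  have h' := h
  simp only [okLevels, Bool.and_eq_true] at h'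
  obtain ⟨⟨⟨hL, hfix⟩, -⟩, hrest⟩ := h'
  have hlow := levels_bound I hw ls _ hrest
  have hL' := hL
  simp only [okOrbit, Bool.and_eq_true, List.all_eq_true, Nat.blt_eq] at hL'
  obtain ⟨⟨⟨⟨⟨hlen, -⟩, hbase⟩, -⟩, -⟩, horb⟩ := hL'
  have hpos : ∀ r, r < L.len → L.pos.word (pt L r) = r := by
    intro r hr
    have := allBelow_spec horb r hr
    simp only [Bool.and_eq_true] at this
    exact Nat.eq_of_beq_eq_true this.1.2
  simp only [List.all_eq_true] at hfix
  let b : Fin D.n := ⟨L.base, hbase⟩
  have hmem : ∀ r < L.len, pw I hw (path L r) ∈ fixing I bs ∧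
      ((pw I hw (path L r) b : Fin D.n) : Nat) = pt L r := by
    intro r hr
    obtain ⟨h1, h2⟩ := okPath_spec hp hr
    refine ⟨⟨pw_mem I hw _, fun i hi => ?_⟩, by rw [pw_apply I hw _ (path_lt hL hp hr)]; exact h2⟩
    have hk : ∀ k ∈ path L r, el I hw k i = i := fun k hk => Fin.ext (by
      rw [el_img I hw (path_lt hL hp hr k hk)]
      exact Nat.eq_of_beq_eq_true (hfix k (h1 k hk) i hi))
    generalize path L r = w at hk ⊢
    induction w with
    | nil => rfl
    | cons k w ih =>
      rw [pw, Perm.mul_apply, hk k (List.mem_cons_self ..),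
        ih fun k' hk' => hk k' (List.mem_cons_of_mem _ hk')]
  have h1 : L.len * Nat.card (fixing I (L.base :: bs)) ≤ Nat.card (fixing I bs) :=
    fibre_card_le I (b := b) (fun r : Fin L.len => ⟨_, (hmem r r.2).1⟩) fun r r' e => by
      have := congrArg (fun z : Fin D.n => L.pos.word z) e
      simp only [(hmem r r.2).2, (hmem r' r'.2).2, hpos r r.2, hpos r' r'.2] at this
      exact Fin.ext this
  rw [List.map_cons, List.prod_cons] at hc
  refine ⟨Nat.le_of_mul_le_mul_left (h1.trans hc) hlen, fun σ hσ b' hb' => ?_⟩
  obtain rfl : b' = b := Fin.ext hb'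
  by_cases hex : ∃ r < L.len, ((σ b : Fin D.n) : Nat) = pt L r
  · obtain ⟨r, hr, er⟩ := hex
    refine ⟨r, hr, er, hpos r hr, ⟨mul_mem (inv_mem (hmem r hr).1.1) hσ.1, fun i hi => ?_⟩⟩
    rcases List.mem_cons.1 hi with hib | hib
    · obtain rfl : i = b := Fin.ext hib
      rw [Perm.mul_apply, Perm.inv_eq_iff_eq]
      exact Fin.ext (er.trans (hmem r hr).2.symm)
    · exact (mul_mem (inv_mem (hmem r hr).1) hσ).2 i hib
  · exfalso
    have h2 : (L.len + 1) * Nat.card (fixing I (L.base :: bs)) ≤ Nat.card (fixing I bs) :=
      fibre_card_le I (b := b)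
        (fun r : Fin (L.len + 1) => if hr : (r : Nat) < L.len then ⟨_, (hmem r hr).1⟩ else ⟨σ, hσ⟩)
        fun r r' e => by
          dsimp only at e
          split at e <;> split at e
          · have := congrArg (fun z : Fin D.n => L.pos.word z) e
            simp only [(hmem r ‹_›).2, (hmem r' ‹_›).2, hpos r ‹_›, hpos r' ‹_›] at this
            exact Fin.ext this
          · exact absurd ⟨r, ‹_›, by rw [← e]; exact (hmem r ‹_›).2⟩ hex
          · exact absurd ⟨r', ‹_›, by rw [e]; exact (hmem r' ‹_›).2⟩ hex
          · exact Fin.ext (by omega)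
    have h3 := Nat.mul_le_mul_left L.len hlow
    have hK : 0 < Nat.card (fixing I (L.base :: bs)) := Nat.card_pos
    rw [add_mul, one_mul] at h2
    omega

/-- the conditions on the images of the base points -/
def Cond (xs : List Nat) (p k : Nat) (σ : Perm (Fin D.n)) : Spec → List (Fin D.n) → Prop
  | [], pre => ∀ x ∈ pre, σ (el I hw (powIdx xs p 1) x) = el I hw (powIdx xs p k) (σ x)
  | hd :: ls, pre => ∀ b : Fin D.n, (b : Nat) = hd.1.base →
      (∀ se, hd.2 = some se → ∀ s ∈ pre[se.1]?,
        σ b = el I hw (powIdx xs p (Nat.mul k se.2)) (σ s)) ∧ Cond xs p k σ ls (pre ++ [b])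

theorem getD_map_val (pre : List (Fin D.n)) (g : Fin D.n → Fin D.n) (j : Nat) {s : Fin D.n}
    (h : pre[j]? = some s) : (pre.map fun x => ((g x : Fin D.n) : Nat)).getD j 0 = (g s : Nat) := by
  simp [List.getD_eq_getElem?_getD, h]

theorem powIdx_lt {xs : List Nat} {p : Nat} (hxs : ∀ a ∈ xs, a < D.g + D.words.length)
    (h0 : 0 < D.g) (e : Nat) : powIdx xs p e < D.g + D.words.length := by
  rw [powIdx, List.getD_eq_getElem?_getD]
  cases h : xs[(e % p) - 1]? with
  | none => simp [h]; omega
  | some a => simp [h, hxs a (List.mem_of_getElem? h)]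

/-- The count bounds the number of elements with the conditions. -/
theorem count_sound (hinv : D.okInv = true) {xs : List Nat} {p k : Nat}
    (hxs : ∀ a ∈ xs, a < D.g + D.words.length) (h0 : 0 < D.g) :
    ∀ (ls : Spec) (bs : List Nat) (pre : List (Fin D.n)) (w : List Nat) (S : Set (Perm (Fin D.n))),
      D.okLevels bs (ls.map Prod.fst) = true →
      (∀ hd ∈ ls, D.okPath hd.1 = true ∧ hd.1.len ≤ 2 ^ 24) →
      Nat.card (fixing I bs) ≤ ((ls.map Prod.fst).map Level.len).prod →
      (∀ a ∈ w, a < D.g + D.words.length) →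
      D.okSpec xs p ls (pre.map Fin.val) = true →
      (∀ σ ∈ S, (pw I hw w)⁻¹ * σ ∈ fixing I bs ∧ Cond I hw xs p k σ ls pre) →
      ∀ im : List Nat, (∀ σ ∈ S, im = pre.map fun x => ((σ x : Fin D.n) : Nat)) →
      S.ncard ≤ D.count xs p k ls w (pre.map Fin.val) im := by
  intro ls
  induction ls with
  | nil =>
    intro bs pre w S _ _ hc hwlt _ hS im him
    simp only [List.map_nil, List.prod_nil] at hc
    have hone : ∀ σ ∈ S, σ = pw I hw w := by
      intro σ hσ
      have hbot : fixing I bs = ⊥ := Subgroup.eq_bot_of_card_le _ hc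
      have := (hS σ hσ).1
      rw [hbot, Subgroup.mem_bot, inv_mul_eq_one] at this
      exact this.symm
    show _ ≤ force (powIdx xs p 1) fun a => force (powIdx xs p k) fun b =>
      Bool.rec (motive := fun _ => Nat) 0 1 (D.leaf a b w (pre.map Fin.val) im)
    rw [force_eq, force_eq]
    cases hl : D.leaf (powIdx xs p 1) (powIdx xs p k) w (pre.map Fin.val) im with
    | true =>
      refine (Set.ncard_le_ncard (t := {pw I hw w}) (fun σ hσ => hone σ hσ)).trans ?_
      simp
    | false =>
      rcases S.eq_empty_or_nonempty with h | ⟨σ, hσ⟩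
      · simp [h]
      exfalso
      have hk1 := powIdx_lt (p := p) hxs h0 1
      have hkk := powIdx_lt (p := p) hxs h0 k
      have : D.leaf (powIdx xs p 1) (powIdx xs p k) w (pre.map Fin.val) im = true := by
        rw [leaf, List.all_eq_true]
        intro j hj
        rw [List.mem_range, List.length_map] at hj
        have e := (hS σ hσ).2 pre[j] (List.getElem_mem hj)
        rw [him σ hσ]
        have g1 : (pre.map Fin.val).getD j 0 = (pre[j] : Nat) :=
          getD_map_val pre id j (List.getElem?_eq_getElem hj)
        have g2 : (pre.map fun x => ((σ x : Fin D.n) : Nat)).getD j 0 = (σ pre[j] : Nat) :=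
          getD_map_val pre σ j (List.getElem?_eq_getElem hj)
        rw [g1, g2, ← el_img I hw hk1, ← el_img I hw hkk, ← pw_apply I hw w hwlt, ← hone σ hσ, e]
        exact Nat.beq_refl _
      rw [hl] at this
      exact Bool.noConfusion this
  | cons hd ls ih =>
    intro bs pre w S hlev hok hc hwlt hspec hS im him
    obtain ⟨L, o⟩ := hd
    simp only [List.map_cons] at hlev hc
    obtain ⟨hp, hlen⟩ := hok _ (List.mem_cons_self ..)
    obtain ⟨hnext, horb⟩ := level_exact I hw hlev hp hc
    have hlev' := hlev
    simp only [okLevels, Bool.and_eq_true] at hlev'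
    obtain ⟨⟨⟨hL, -⟩, -⟩, hrest⟩ := hlev'
    have hL' := hL
    simp only [okOrbit, Bool.and_eq_true, Nat.blt_eq] at hL'
    have hbase : L.base < D.n := hL'.1.1.1.2
    let b : Fin D.n := ⟨L.base, hbase⟩
    have hspec' : D.okSpec xs p ls ((pre ++ [b]).map Fin.val) = true := by
      simp only [okSpec, Bool.and_eq_true] at hspec ⊢
      rw [List.map_append]
      exact hspec.2
    have hw' : ∀ r < L.len, ∀ a ∈ path L r ++ w, a < D.g + D.words.length := fun r hr a ha =>
      (List.mem_append.1 ha).elim (path_lt hL hp hr a) (hwlt a)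
    -- the elements taking the base point to position `r`
    let T : Nat → Set (Perm (Fin D.n)) := fun r =>
      {σ | σ ∈ S ∧ ((((pw I hw w)⁻¹ * σ) b : Fin D.n) : Nat) = pt L r ∧
        (pw I hw (path L r ++ w))⁻¹ * σ ∈ fixing I (L.base :: bs)}
    have hcover : ∀ σ ∈ S, ∃ r < L.len, σ ∈ T r ∧ L.pos.word (pt L r) = r := by
      intro σ hσ
      obtain ⟨r, hr, er, epos, emem⟩ := horb _ (hS σ hσ).1 b rfl
      refine ⟨r, hr, ⟨hσ, er, ?_⟩, epos⟩
      rwa [pw_append, mul_inv_rev, mul_assoc]
    have himg : ∀ r < L.len, ∀ σ ∈ T r, ((σ b : Fin D.n) : Nat) = D.appF w (pt L r) := by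
      intro r _ σ hσ
      have e := hσ.2.1
      rw [← e, ← pw_apply I hw w hwlt, Perm.mul_apply, Perm.coe_inv, Equiv.apply_symm_apply]
    have hT : ∀ r < L.len, ∀ q, (∀ σ ∈ T r, ((σ b : Fin D.n) : Nat) = q) →
        (T r).ncard ≤ D.count xs p k ls (path L r ++ w) (pre.map Fin.val ++ [L.base]) (im ++ [q]) := by
      intro r hr q hq
      have h := ih (L.base :: bs) (pre ++ [b]) (path L r ++ w) (T r) hrest
        (fun hd hh => hok hd (List.mem_cons_of_mem _ hh)) hnext (hw' r hr) hspec'
        (fun σ hσ => ⟨hσ.2.2, ((hS σ hσ.1).2 b rfl).2⟩) (im ++ [q])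
        (fun σ hσ => by simp [him σ hσ.1, hq σ hσ])
      simpa using h
    cases o with
    | none =>
      show S.ncard ≤ sumBelow L.len fun r => force (D.appF w (pt L r)) fun q =>
          pathK L depth r w fun w' =>
            D.count xs p k ls w' (pre.map Fin.val ++ [L.base]) (im ++ [q])
      rw [sumBelow_eq hlen]
      refine (Set.ncard_le_ncard (t := ⋃ r ∈ Finset.range L.len, T r) ?_
        (Set.toFinite _)).trans ((Finset.set_ncard_biUnion_le _ _).trans (Finset.sum_le_sum ?_))
      · intro σ hσ
        obtain ⟨r, hr, h', -⟩ := hcover σ hσ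
        exact Set.mem_biUnion (Finset.mem_range.2 hr) h'
      · intro r hr
        rw [Finset.mem_range] at hr
        simp only [force_eq, pathK_depth]
        exact hT r hr _ (himg r hr)
    | some se =>
      rcases S.eq_empty_or_nonempty with h | ⟨σ₀, hσ₀⟩
      · simp [h]
      simp only [okSpec, Bool.and_eq_true, Nat.blt_eq] at hspec
      have hs : se.1 < pre.length := by simpa using hspec.1.1.1.1
      have hkk := powIdx_lt (p := p) hxs h0 (Nat.mul k se.2)
      have eq : ∀ σ ∈ S, ((σ b : Fin D.n) : Nat) =
          D.img (powIdx xs p (Nat.mul k se.2)) (im.getD se.1 0) := by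
        intro σ hσ
        rw [((hS σ hσ).2 b rfl).1 se rfl pre[se.1] (by simp [hs]), el_img I hw hkk, him σ hσ,
          getD_map_val pre σ se.1 (List.getElem?_eq_getElem hs)]
      set q := D.img (powIdx xs p (Nat.mul k se.2)) (im.getD se.1 0) with hqdef
      show S.ncard ≤ force (powIdx xs p (Nat.mul k se.2)) fun i => force (D.img i (im.getD se.1 0))
        fun q => force (D.appInvF w q) fun o => force (L.pos.word o) fun r =>
          Bool.rec (motive := fun _ => Nat) 0 (Bool.rec (motive := fun _ => Nat) 0 (pathK L depth r w fun w' =>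
            D.count xs p k ls w' (pre.map Fin.val ++ [L.base]) (im ++ [q])) (Nat.beq (pt L r) o))
            (Nat.blt r L.len)
      simp only [force_eq, pathK_depth, ← hqdef]
      have hsub : ∀ σ ∈ S, ∃ r < L.len, σ ∈ T r ∧ pt L r = D.appInvF w q ∧
          L.pos.word (D.appInvF w q) = r := by
        intro σ hσ
        obtain ⟨r, hr, hσr, epos⟩ := hcover σ hσ
        have : pt L r = D.appInvF w q := by
          rw [← eq σ hσ, appInvF_eq I hw hinv w hwlt, ← hσr.2.1, Perm.mul_apply]
        exact ⟨r, hr, hσr, this, this ▸ epos⟩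
      obtain ⟨r, hr, -, hpt, hpos⟩ := hsub σ₀ hσ₀
      rw [hpos, show Nat.blt r L.len = true from Nat.ble_eq_true_of_le hr, show Nat.beq (pt L r) (D.appInvF w q) = true by rw [hpt]; exact Nat.beq_refl _]
      refine (Set.ncard_le_ncard (t := T r) (fun σ hσ => ?_) (Set.toFinite _)).trans
        (hT r hr q fun σ hσ => eq σ hσ.1)
      obtain ⟨r', -, h', -, hpos'⟩ := hsub σ hσ
      rwa [← hpos'.trans rfl, hpos] at h'

theorem el_powIdx {xs : List Nat} {p : Nat} (hok : D.okPows xs = true) (hlen : xs.length + 1 = p) {e : Nat}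
    (he : e % p ≠ 0) (hX : el I hw (xs.getD 0 0) ^ p = 1) :
    el I hw (powIdx xs p e) = el I hw (xs.getD 0 0) ^ e := by
  simp only [okPows, Bool.and_eq_true, List.all_eq_true, Nat.blt_eq] at hok
  obtain ⟨hlt, hpow⟩ := hok
  have hlt' : ∀ j < xs.length, xs.getD j 0 < D.g + D.words.length := fun j hj => by
    rw [List.getD_eq_getElem?_getD, List.getElem?_eq_getElem hj]
    exact hlt _ (List.getElem_mem hj)
  have key : ∀ j < xs.length, el I hw (xs.getD j 0) = el I hw (xs.getD 0 0) ^ (j + 1) := by
    intro j
    induction j with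
    | zero => intro _; rw [pow_one]
    | succ j ih =>
      intro hj
      refine Equiv.ext fun i => Fin.ext ?_
      rw [pow_succ' _ (j + 1), Perm.mul_apply, el_img I hw (hlt' _ hj), ← ih (by omega),
        el_img I hw (hlt' 0 (by omega)), el_img I hw (hlt' j (by omega))]
      exact Nat.eq_of_beq_eq_true (allBelow_spec (allBelow_spec hpow j (by omega)) i i.2)
  have hp : 0 < p := by omega
  have := Nat.mod_lt e hp
  show el I hw (xs.getD (e % p - 1) 0) = _
  rw [key _ (by omega), pow_eq_pow_mod e hX, show e % p - 1 + 1 = e % p by omega]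

theorem cond_of_conj {xs : List Nat} {p k : Nat} (hprime : p.Prime) (hk : k % p ≠ 0)
    (hok : D.okPows xs = true) (hlen : xs.length + 1 = p) (hX : el I hw (xs.getD 0 0) ^ p = 1)
    (h0 : 0 < D.g) {σ : Perm (Fin D.n)}
    (hσ : σ * el I hw (xs.getD 0 0) = el I hw (xs.getD 0 0) ^ k * σ) :
    ∀ (ls : Spec) (pre : List (Fin D.n)), D.okSpec xs p ls (pre.map Fin.val) = true →
      Cond I hw xs p k σ ls pre := by
  have hxs : ∀ a ∈ xs, a < D.g + D.words.length := by
    have := hok
    simp only [okPows, Bool.and_eq_true, List.all_eq_true, Nat.blt_eq] at this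
    exact this.1
  have hcomm : ∀ e : ℕ, σ * el I hw (xs.getD 0 0) ^ e = el I hw (xs.getD 0 0) ^ (k * e) * σ := by
    intro e
    induction e with
    | zero => simp
    | succ e ih =>
      rw [pow_succ, ← mul_assoc, ih, mul_assoc, hσ, ← mul_assoc, ← pow_add]; rfl
  have key : ∀ e : ℕ, e % p ≠ 0 → ∀ y, σ (el I hw (powIdx xs p e) y) =
      el I hw (powIdx xs p (Nat.mul k e)) (σ y) := by
    intro e he y
    have hke : k * e % p ≠ 0 := fun h => by
      rcases (Nat.Prime.dvd_mul hprime).1 (Nat.dvd_of_mod_eq_zero h) with h | h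
      · exact hk (Nat.mod_eq_zero_of_dvd h)
      · exact he (Nat.mod_eq_zero_of_dvd h)
    rw [el_powIdx I hw hok hlen he hX, show Nat.mul k e = k * e from rfl,
      el_powIdx I hw hok hlen hke hX, ← Perm.mul_apply, hcomm e, Perm.mul_apply]
  intro ls
  induction ls with
  | nil =>
    intro pre _ y _
    have h1 : (1 : ℕ) % p ≠ 0 := by rw [Nat.mod_eq_of_lt hprime.one_lt]; exact one_ne_zero
    simpa using key 1 h1 y
  | cons hd ls ih =>
    intro pre hspec b hb
    simp only [okSpec, Bool.and_eq_true] at hspec
    refine ⟨fun se hse s hs => ?_, ih _ (by rw [List.map_append, List.map_singleton, hb]; exact hspec.2)⟩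
    have h := hspec.1
    rw [hse] at h
    simp only [Bool.and_eq_true, Nat.blt_eq, Nat.ble_eq] at h
    obtain ⟨⟨⟨-, h1⟩, h2⟩, h3⟩ := h
    have he : se.2 % p ≠ 0 := by rw [Nat.mod_eq_of_lt h2]; omega
    have : el I hw (powIdx xs p se.2) s = b := Fin.ext (by
      rw [el_img I hw (powIdx_lt hxs h0 _), hb]
      have e := Nat.eq_of_beq_eq_true h3
      rwa [show (pre.map Fin.val).getD se.1 0 = (s : Nat) from getD_map_val pre id se.1 hs] at e)
    rw [← key se.2 he s, this]

/-- The count bounds the number of elements carrying an element to the given power of it. -/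
theorem card_conj_le (hinv : D.okInv = true) {xs : List Nat} {p k : Nat} (hprime : p.Prime)
    (hk : k % p ≠ 0) (hok : D.okPows xs = true) (hlen : xs.length + 1 = p)
    (hX : el I hw (xs.getD 0 0) ^ p = 1) (h0 : 0 < D.g) (ls : Spec)
    (hlev : D.okLevels [] (ls.map Prod.fst) = true)
    (hpath : (ls.all fun hd => D.okPath hd.1 && Nat.ble hd.1.len (2 ^ 24)) = true)
    (hspec : D.okSpec xs p ls [] = true)
    (hcard : Nat.card (grp I) ≤ ((ls.map Prod.fst).map Level.len).prod) :
    {σ : Perm (Fin D.n) | σ ∈ grp I ∧
      σ * el I hw (xs.getD 0 0) = el I hw (xs.getD 0 0) ^ k * σ}.ncard ≤ D.count xs p k ls [] [] [] := by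
  have hxs : ∀ a ∈ xs, a < D.g + D.words.length := by
    have := hok
    simp only [okPows, Bool.and_eq_true, List.all_eq_true, Nat.blt_eq] at this
    exact this.1
  have hfix : Nat.card (fixing I []) ≤ Nat.card (grp I) :=
    Nat.card_le_card_of_injective (fun σ : fixing I [] => (⟨σ, σ.2.1⟩ : grp I))
      fun a b h => Subtype.ext (congrArg Subtype.val h :)
  simp only [List.all_eq_true, Bool.and_eq_true, Nat.ble_eq] at hpath
  exact count_sound I hw hinv hxs h0 ls [] [] [] _ hlev hpath (hfix.trans hcard) (by simp) hspec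
    (fun σ hσ => ⟨⟨by simpa [pw] using hσ.1, by simp⟩,
      cond_of_conj I hw hprime hk hok hlen hX h0 hσ.2 ls [] hspec⟩) [] (fun σ _ => rfl)

end PermData

end CfsgLib.PresCert
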