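import Cfsg.Agent.Lib.PresCert.Sound
import Cfsg.Prelude.Def_SporCoxeter

/-!
Models of certificates inside groups generated by involutions, in particular Coxeter-type
presented groups and their subgroups.
-/

namespace CfsgLib.PresCert

open Cfsg.Spor

variable {α : Type*} [DecidableEq α] {Q : Type*} [Group Q]

/-- the word of a Coxeter relator -/
def pairWord (edges : List (α × ℕ × α)) (x y : α) : List α :=
  (List.replicate (coxLabel edges x y) [x, y]).flatten

/-- all Coxeter relator words together with the further relator words -/
def knownWords (edges : List (α × ℕ × α)) (extra : List (List α)) : List (List α) :=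
  ((coxNodes edges).flatMap fun x => (coxNodes edges).map fun y => pairWord edges x y) ++ extra

theorem prod_map_replicate_pair (f : α → Q) (x y : α) (m : ℕ) :
    ((List.replicate m [x, y]).flatten.map f).prod = (f x * f y) ^ m := by
  induction m with
  | zero => simp
  | succ m ih => simp [List.replicate_succ, ih, pow_succ', mul_assoc]

theorem knownWords_eq_one (edges : List (α × ℕ × α)) (extra : List (List α)) (f : α → Q)
    (hc : ∀ x ∈ coxNodes edges, ∀ y ∈ coxNodes edges, (f x * f y) ^ coxLabel edges x y = 1)
    (he : ∀ w ∈ extra, (w.map f).prod = 1) :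
    ∀ w ∈ knownWords edges extra, (w.map f).prod = 1 := by
  intro w hw
  rcases List.mem_append.1 hw with hw | hw
  · obtain ⟨x, hx, hw⟩ := List.mem_flatMap.1 hw
    obtain ⟨y, hy, rfl⟩ := List.mem_map.1 hw
    rw [pairWord, prod_map_replicate_pair]
    exact hc x hx y hy
  · exact he w hw

theorem prod_reverse_of_invol (f : α → Q) (hf : ∀ x, f x * f x = 1) (w : List α) :
    (w.reverse.map f).prod = ((w.map f).prod)⁻¹ := by
  induction w with
  | nil => simp
  | cons x w ih =>
    rw [List.reverse_cons, List.map_append, List.prod_append, ih]
    simp only [List.map_cons, List.map_nil, List.prod_cons, List.prod_nil, mul_one, mul_inv_rev]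
    rw [← eq_inv_of_mul_eq_one_left (hf x)]

/-- each relator of the certificate is, in the letters `sel`, a known word or a reversed one -/
def okRels (C : Cert) (sel : List α) (known : List (List α)) (d : α) : Bool :=
  decide (C.g = sel.length) && decide (C.inv = List.range C.g) &&
    C.rels.all fun r => (r.all fun x => decide (x < C.g)) &&
      (known.contains (r.map fun x => sel.getD x d) ||
        known.contains ((r.map fun x => sel.getD x d).reverse))

/-- the subgroup generators of the certificate are the given words in the letters `sel` -/
def okSubs (C : Cert) (sel : List α) (subs : List (List α)) (d : α) : Bool :=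
  (C.subs.all fun r => r.all fun x => decide (x < C.g)) && decide (C.subs.map (fun r => r.map fun x => sel.getD x d) = subs)

variable (C : Cert) (sel : List α) (known : List (List α)) (subs : List (List α)) (d : α)
  (f : α → Q)

/-- generators numbered as in the certificate -/
def selGen (x : Nat) : Q := f (sel.getD x d)

omit [DecidableEq α] in
theorem prod_map_selGen (r : List Nat) :
    (r.map (selGen sel d f)).prod = ((r.map fun x => sel.getD x d).map f).prod := by
  rw [List.map_map]
  rfl

/-- the group generated by the letters in `sel` -/
def lettersGroup : Subgroup Q := Subgroup.closure {q | ∃ x ∈ sel, f x = q}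

/-- the subgroup generated by the values of the given words -/
def wordsGroup : Subgroup Q := Subgroup.closure {q | ∃ w ∈ subs, (w.map f).prod = q}

variable {C sel known subs d f}

omit [DecidableEq α] in
theorem wordsGroup_le (h : ∀ w ∈ subs, ∀ x ∈ w, x ∈ sel) :
    wordsGroup subs f ≤ lettersGroup sel f := by
  rw [wordsGroup, Subgroup.closure_le]
  rintro _ ⟨w, hw, rfl⟩
  refine list_prod_mem fun q hq => ?_
  obtain ⟨x, hx, rfl⟩ := List.mem_map.1 hq
  exact Subgroup.subset_closure ⟨x, h w hw x hx, rfl⟩

theorem index_bound {js : List Cert.Just} (V : Cert.Valid C js) (hf : ∀ x, f x * f x = 1)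
    (hk : ∀ w ∈ known, (w.map f).prod = 1) (hr : okRels C sel known d = true)
    (hs : okSubs C sel subs d = true) :
    (wordsGroup subs f).relIndex (lettersGroup sel f) ≤ C.n ∧
      (wordsGroup subs f).relIndex (lettersGroup sel f) ≠ 0 := by
  simp only [okRels, Bool.and_eq_true, decide_eq_true_eq, List.all_eq_true, Bool.or_eq_true,
    List.contains_iff_mem] at hr
  obtain ⟨⟨hg, hinv⟩, hrel⟩ := hr
  simp only [okSubs, Bool.and_eq_true, List.all_eq_true, decide_eq_true_eq] at hs
  obtain ⟨hsl, hs⟩ := hs
  set L := lettersGroup sel f with hL
  have hmem : ∀ x, x < C.g → selGen sel d f x ∈ L := by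
    intro x hx
    refine Subgroup.subset_closure ⟨sel.getD x d, ?_, rfl⟩
    rw [List.getD_eq_getElem?_getD, List.getElem?_eq_getElem (hg ▸ hx)]
    exact List.getElem_mem _
  let gen : Nat → L := fun x => if hx : x < C.g then ⟨selGen sel d f x, hmem x hx⟩ else 1
  have hgen : ∀ x < C.g, ((gen x : L) : Q) = selGen sel d f x := fun x hx => by simp [gen, hx]
  have hprod : ∀ r : List Nat, (∀ x ∈ r, x < C.g) →
      (((r.map gen).prod : L) : Q) = ((r.map fun x => sel.getD x d).map f).prod := by
    intro r hr
    rw [← prod_map_selGen]
    induction r with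
    | nil => simp
    | cons x r ih =>
      simp only [List.map_cons, List.prod_cons, Subgroup.coe_mul]
      rw [ih fun y hy => hr y (List.mem_cons_of_mem _ hy), hgen x (hr x (List.mem_cons_self ..))]
  let M : Model C L :=
    { gen := gen
      gen_inv := fun x hx => by
        have e : C.iv x = x := by
          simp [Cert.iv, hinv, List.getD_eq_getElem?_getD, List.getElem?_range hx]
        rw [e]
        refine ⟨hx, Subtype.ext ?_⟩
        rw [Subgroup.coe_inv, hgen x hx]
        exact eq_inv_of_mul_eq_one_left (hf _)
      rels_eq := fun r hr => by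
        obtain ⟨h1, h2⟩ := hrel r hr
        refine ⟨h1, Subtype.ext ?_⟩
        rw [hprod r h1, Subgroup.coe_one]
        rcases h2 with h2 | h2
        · exact hk _ h2
        · have := hk _ h2
          rwa [prod_reverse_of_invol f hf, inv_eq_one] at this
      sub := (wordsGroup subs f).subgroupOf L
      subs_mem := fun r hr => by
        rw [Subgroup.mem_subgroupOf]
        rw [hprod r (hsl r hr)]
        exact Subgroup.subset_closure ⟨_, hs ▸ List.mem_map.2 ⟨r, hr, rfl⟩, rfl⟩
      closure_gen := by
        rw [eq_top_iff]
        rintro ⟨q, hq⟩ -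
        induction hq using Subgroup.closure_induction'' with
        | mem q hq =>
          obtain ⟨a, ha, rfl⟩ := hq
          obtain ⟨i, hi, rfl⟩ := List.getElem_of_mem ha
          have hi' : i < C.g := hg ▸ hi
          refine Subgroup.subset_closure ⟨i, hi', Subtype.ext ?_⟩
          rw [hgen i hi', selGen, List.getD_eq_getElem?_getD, List.getElem?_eq_getElem hi]
          rfl
        | inv_mem q hq =>
          obtain ⟨a, ha, rfl⟩ := hq
          obtain ⟨i, hi, rfl⟩ := List.getElem_of_mem ha
          have hi' : i < C.g := hg ▸ hi
          refine Subgroup.subset_closure ⟨i, hi', Subtype.ext ?_⟩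
          rw [hgen i hi', selGen, List.getD_eq_getElem?_getD, List.getElem?_eq_getElem hi]
          exact eq_inv_of_mul_eq_one_left (hf _)
        | one => exact one_mem _
        | mul a b ha hb iha ihb =>
          exact mul_mem (iha) (ihb) }
  obtain ⟨h1, h2⟩ := Cert.index_le M V
  exact ⟨h1, h2.index_ne_zero⟩

end CfsgLib.PresCert
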