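import Cfsg.Agent.Lib.PresCert.PermSound
import Cfsg.Agent.Lib.PresCert.Cox

/-!
Permutation representations of groups presented on involutions, from tables.
-/

namespace CfsgLib.PresCert

namespace PermData

/-- the word moves no point -/
noncomputable def okId (D : PermData) (w : List Nat) : Bool :=
  allBelow D.n fun i => Nat.beq (D.app w i) i

/-- the given generators are involutions (or trivial) -/
noncomputable def okInvol (D : PermData) : Bool :=
  allBelow D.g fun k => allBelow D.n fun i =>
    let j := D.img k i
    Nat.blt j D.n && Nat.beq (D.img k j) i

variable {D : PermData}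

theorem okInvol_spec (h : D.okInvol = true) {k : Nat} (hk : k < D.g) (i : Fin D.n) :
    D.img k i < D.n ∧ D.img k (D.img k i) = i := by
  have := allBelow_spec (allBelow_spec h k hk) (i : Nat) i.2
  simpa using this

/-- the permutation of a generator -/
noncomputable def genPerm (h : D.okInvol = true) (k : Nat) : Equiv.Perm (Fin D.n) :=
  if hk : k < D.g then
    Function.Involutive.toPerm (fun i => ⟨D.img k i, (okInvol_spec h hk i).1⟩)
      fun i => Fin.ext (okInvol_spec h hk i).2
  else 1

theorem genPerm_img (h : D.okInvol = true) {k : Nat} (hk : k < D.g) (i : Fin D.n) :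
    ((genPerm h k i : Fin D.n) : Nat) = D.img k i := by
  rw [genPerm, dif_pos hk]
  rfl

theorem genPerm_sq (h : D.okInvol = true) (k : Nat) : genPerm h k * genPerm h k = 1 := by
  by_cases hk : k < D.g
  · refine Equiv.ext fun i => Fin.ext ?_
    rw [Equiv.Perm.mul_apply, genPerm_img h hk, genPerm_img h hk, (okInvol_spec h hk i).2]
    rfl
  · simp [genPerm, hk]

/-- the interpretation of the tables -/
noncomputable def interp (h : D.okInvol = true) : Interp D :=
  ⟨genPerm h, fun _ hk i => genPerm_img h hk i⟩

theorem prod_apply (h : D.okInvol = true) : ∀ (w : List Nat), (∀ k ∈ w, k < D.g) → ∀ i : Fin D.n,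
    (((w.map (genPerm h)).prod i : Fin D.n) : Nat) = D.app w.reverse i := by
  intro w
  induction w using List.reverseRecOn with
  | nil => simp [app]
  | append_singleton w k ih =>
    intro hw i
    rw [List.map_append, List.prod_append]
    simp only [List.map_cons, List.map_nil, List.prod_cons, List.prod_nil, mul_one,
      Equiv.Perm.mul_apply, List.reverse_append, List.reverse_cons, List.reverse_nil,
      List.nil_append, List.cons_append, app]
    rw [ih (fun k hk => hw k (List.mem_append_left _ hk)),
      genPerm_img h (hw k (List.mem_append_right _ (List.mem_singleton_self k)))]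

/-- the numeric words are trivial on every point -/
noncomputable def okNums (D : PermData) (ns : List (List Nat)) : Bool :=
  ns.all fun w => (w.all fun k => Nat.blt k D.g) && D.okId w

/-- every word is, as a numeric word or reversed, one of the listed ones -/
noncomputable def okCovered {α : Type*} (idx : α → Nat) (ns : List (List Nat))
    (ws : List (List α)) : Bool :=
  ws.all fun w => ns.contains (w.map idx) || ns.contains (w.map idx).reverse

theorem word_eq_one (h : D.okInvol = true) {α : Type*} (idx : α → Nat) {ns : List (List Nat)}
    {ws : List (List α)} (hns : okNums D ns = true) (hws : okCovered idx ns ws = true) :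
    ∀ w ∈ ws, (w.map fun x => genPerm h (idx x)).prod = 1 := by
  intro w hw
  simp only [okCovered, List.all_eq_true, Bool.or_eq_true, List.contains_iff_mem] at hws
  simp only [okNums, okId, List.all_eq_true, Bool.and_eq_true, Nat.blt_eq] at hns
  have key : ∀ v ∈ ns, (v.reverse.map (genPerm h)).prod = 1 := by
    intro v hv
    obtain ⟨h1, h2⟩ := hns v hv
    refine Equiv.ext fun i => Fin.ext ?_
    rw [prod_apply h v.reverse (fun k hk => h1 k (List.mem_reverse.1 hk)) i, List.reverse_reverse,
      Nat.eq_of_beq_eq_true (allBelow_spec h2 i i.2)]
    rfl
  have e : (w.map fun x => genPerm h (idx x)) = (w.map idx).map (genPerm h) := by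
    rw [List.map_map]; rfl
  rw [e]
  rcases hws w hw with h1 | h1
  · have := key _ h1
    rwa [prod_reverse_of_invol _ (genPerm_sq h), inv_eq_one] at this
  · simpa using key _ h1

end PermData

end CfsgLib.PresCert
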