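import Cfsg.Agent.Lib.PresCert.Perm

/-!
Soundness of the order bound from orbits along a base.
-/

namespace CfsgLib.PresCert

namespace PermData

open Equiv

/-- The meaning of the tables: generators as permutations. -/
structure Interp (D : PermData) where
  /-- the generators -/
  gen : Nat → Perm (Fin D.n)
  gen_img : ∀ k < D.g, ∀ i : Fin D.n, ((gen k i : Fin D.n) : Nat) = D.img k i

variable {D : PermData} (I : Interp D)

/-- the group generated by the generators -/
def grp : Subgroup (Perm (Fin D.n)) := Subgroup.closure {σ | ∃ k < D.g, I.gen k = σ}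

theorem okWords_get : ∀ (l : List (List Nat)) (k : Nat), D.okWords k l = true →
    ∀ i, ∀ h : i < l.length, (∀ j ∈ l[i], j < k + i) ∧
      ∀ p < D.n, D.app l[i] p = D.img (k + i) p
  | [], _, _, i, h => by simp at h
  | w :: l, k, h, i, hi => by
    simp only [okWords, Bool.and_eq_true, List.all_eq_true, Nat.blt_eq] at h
    obtain ⟨⟨h1, h2'⟩, h3⟩ := h
    have h2 : ∀ p < D.n, D.app w p = D.img k p := fun p hp =>
      Nat.eq_of_beq_eq_true (allBelow_spec h2' p hp)
    rcases i with _ | i
    · exact ⟨by simpa using h1, by simpa using h2⟩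
    · have := okWords_get l (k + 1) h3 i (by simpa using hi)
      simpa [add_assoc, add_comm 1 i] using this

theorem elem_exists (hw : D.okWords D.g D.words = true) :
    ∀ k < D.g + D.words.length,
      ∃ σ ∈ grp I, ∀ i : Fin D.n, ((σ i : Fin D.n) : Nat) = D.img k i := by
  intro k
  induction k using Nat.strong_induction_on with
  | _ k ih =>
    intro hk
    rcases lt_or_ge k D.g with h | h
    · exact ⟨I.gen k, Subgroup.subset_closure ⟨k, h, rfl⟩, I.gen_img k h⟩
    obtain ⟨i, rfl⟩ : ∃ i, k = D.g + i := ⟨k - D.g, by omega⟩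
    obtain ⟨h1, h2⟩ := okWords_get D.words D.g hw i (by omega)
    suffices key : ∀ w : List Nat, (∀ j ∈ w, j < D.g + i) →
        ∃ σ ∈ grp I, ∀ p : Fin D.n, ((σ p : Fin D.n) : Nat) = D.app w p by
      obtain ⟨σ, hσ, he⟩ := key _ h1
      exact ⟨σ, hσ, fun p => by rw [he, h2 p p.2]⟩
    intro w
    induction w with
    | nil => exact fun _ => ⟨1, one_mem _, fun p => by simp [app]⟩
    | cons j w ihw =>
      intro hjw
      obtain ⟨hj, hw'⟩ := List.forall_mem_cons.1 hjw
      obtain ⟨τ, hτ, eτ⟩ := ihw hw'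
      obtain ⟨ρ, hρ, eρ⟩ := ih j hj (by omega)
      exact ⟨τ * ρ, mul_mem hτ hρ, fun p => by simp [app, eτ, eρ]⟩

/-- the subgroup of the group fixing the listed points -/
def fixing (bs : List Nat) : Subgroup (Perm (Fin D.n)) where
  carrier := {σ | σ ∈ grp I ∧ ∀ i : Fin D.n, (i : Nat) ∈ bs → σ i = i}
  one_mem' := ⟨one_mem _, fun _ _ => rfl⟩
  mul_mem' := by
    intro a b ha hb
    exact ⟨mul_mem ha.1 hb.1, fun i hi => by simp [hb.2 i hi, ha.2 i hi]⟩
  inv_mem' := by
    intro a ha
    refine ⟨inv_mem ha.1, fun i hi => ?_⟩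
    rw [Perm.inv_eq_iff_eq, ha.2 i hi]

theorem levels_bound (hw : D.okWords D.g D.words = true) :
    ∀ (ls : List Level) (bs : List Nat), D.okLevels bs ls = true →
      (ls.map Level.len).prod ≤ Nat.card (fixing I bs)
  | [], bs, _ => by
    simp only [List.map_nil, List.prod_nil]
    exact (Nat.card_pos : 0 < Nat.card (fixing I bs))
  | L :: ls, bs, h => by
    simp only [okLevels, okOrbit, Bool.and_eq_true, List.all_eq_true, List.mem_range, Nat.blt_eq,
      Nat.beq_eq, Bool.or_eq_true] at h
    obtain ⟨⟨⟨⟨⟨⟨⟨⟨hlen, horb0⟩, hbase⟩, hpos0⟩, hgens⟩, horb'⟩, hfix⟩, -⟩, hrest⟩ := h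
    have horb := fun p hp => allBelow_spec horb' p hp
    simp only [Bool.and_eq_true, Bool.or_eq_true, Nat.blt_eq, Nat.beq_eq] at horb
    have ih := levels_bound hw ls _ hrest
    let b : Fin D.n := ⟨L.base, hbase⟩
    let K := fixing I bs
    -- every orbit point is an image of the base point
    have key : ∀ p, p < L.len → ∃ σ ∈ K, ((σ b : Fin D.n) : Nat) = Nat.land (L.orb.word p) 65535 := by
      intro p
      induction p using Nat.strong_induction_on with
      | _ p ihp =>
        intro hp
        obtain ⟨-, hp0 | ⟨⟨hpar, hk⟩, himg⟩⟩ := horb p hp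
        · subst hp0
          exact ⟨1, one_mem _, by rw [horb0]; rfl⟩
        obtain ⟨σ, hσ, eσ⟩ := ihp _ hpar (hpar.trans hp)
        have hmem : L.gens.getD (Nat.shiftRight (L.orb.word p) 32) 0 ∈ L.gens := by
          rw [List.getD_eq_getElem?_getD, List.getElem?_eq_getElem hk]
          exact List.getElem_mem hk
        obtain ⟨τ, hτ, eτ⟩ := elem_exists I hw _ (hgens _ hmem)
        have hτK : τ ∈ K := ⟨hτ, fun i hi => Fin.ext (by rw [eτ, hfix _ hmem i hi])⟩
        exact ⟨τ * σ, mul_mem hτK hσ, by rw [Perm.mul_apply, eτ, eσ, himg]⟩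
    choose σ hσ eσ using key
    let φ : Fin L.len × fixing I (L.base :: bs) → K := fun q =>
      ⟨σ q.1 q.1.2 * (q.2 : Perm (Fin D.n)), mul_mem (hσ _ _)
        ⟨q.2.2.1, fun i hi => q.2.2.2 i (List.mem_cons_of_mem _ hi)⟩⟩
    have hφ : Function.Injective φ := by
      rintro ⟨p, τ⟩ ⟨p', τ'⟩ h
      have h' : σ p p.2 * (τ : Perm (Fin D.n)) = σ p' p'.2 * (τ' : Perm (Fin D.n)) :=
        congrArg Subtype.val h
      have hb : (τ : Perm (Fin D.n)) b = b := τ.2.2 b (List.mem_cons_self ..)
      have hb' : (τ' : Perm (Fin D.n)) b = b := τ'.2.2 b (List.mem_cons_self ..)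
      have hp : (p : Nat) = p' := by
        have e := congrArg (fun π : Perm (Fin D.n) => ((π b : Fin D.n) : Nat)) h'
        simp only [Perm.mul_apply, hb, hb', eσ] at e
        rw [← (horb p p.2).1.2, ← (horb p' p'.2).1.2, e]
      obtain rfl : p = p' := Fin.ext hp
      exact Prod.ext rfl (Subtype.ext (mul_left_cancel h'))
    have hc := Nat.card_le_card_of_injective φ hφ
    rw [Nat.card_prod, Nat.card_eq_fintype_card, Fintype.card_fin] at hc
    simpa using le_trans (Nat.mul_le_mul_left _ ih) hc

/-- the product of the orbit lengths bounds the order from below -/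
theorem le_card (hw : D.okWords D.g D.words = true) (ls : List Level)
    (hl : D.okLevels [] ls = true) : (ls.map Level.len).prod ≤ Nat.card (grp I) :=
  (levels_bound I hw ls [] hl).trans
    (Nat.card_le_card_of_injective (fun σ : fixing I [] => (⟨σ, σ.2.1⟩ : grp I))
      fun a b h => Subtype.ext (congrArg Subtype.val h :))

/-- the bound for the preimage of a generating set under a homomorphism -/
theorem le_card_of_hom {G : Type*} [Group G] (K : Subgroup G) [Finite K]
    (π : G →* Perm (Fin D.n))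
    (hgen : ∀ k < D.g, ∃ x ∈ K, ∀ i : Fin D.n, ((π x i : Fin D.n) : Nat) = D.img k i)
    (hw : D.okWords D.g D.words = true) (ls : List Level) (hl : D.okLevels [] ls = true) :
    (ls.map Level.len).prod ≤ Nat.card K := by
  choose x hx he using hgen
  let I : Interp D :=
    ⟨fun k => if hk : k < D.g then π (x k hk) else 1, fun k hk i => by
      simp only [dif_pos hk]; exact he k hk i⟩
  refine (le_card I hw ls hl).trans ?_
  refine (Nat.le_of_dvd Nat.card_pos (Subgroup.card_dvd_of_le (K := K.map π) ?_)).trans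
    (Nat.le_of_dvd Nat.card_pos (Subgroup.card_map_dvd K π))
  rw [grp, Subgroup.closure_le]
  rintro _ ⟨k, hk, rfl⟩
  exact ⟨x k hk, hx k hk, by simp [I, dif_pos hk]⟩

end PermData

end CfsgLib.PresCert
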