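import Cfsg.Agent.Lib.PresCert.PermSound

/-!
Upper bounds for centralisers in permutation groups whose order is the product of the certified
orbit lengths along a base.
-/

namespace CfsgLib.PresCert

namespace PermData

open Equiv

variable {D : PermData} (I : Interp D)

/-- For each level: whether the base point is fixed by element `z`, and if so the fixed points of
`z` in the orbit; otherwise the whole orbit. -/
noncomputable def okFixed (z : Nat) : List Level → List (List Nat) → Bool
  | L :: ls, fl :: fls =>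
    (allBelow L.len fun p =>
      let pt := Nat.land (L.orb.word p) (nat_lit 65535)
      (Nat.beq (D.img z L.base) L.base && !(Nat.beq (D.img z pt) pt)) || fl.contains pt) &&
      okFixed z ls fls
  | [], [] => true
  | _, _ => false

theorem level_exact (hw : D.okWords D.g D.words = true) (L : Level) (ls : List Level)
    (bs : List Nat) (h : D.okLevels bs (L :: ls) = true)
    (hc : Nat.card (fixing I bs) ≤ L.len * (ls.map Level.len).prod) :
    L.base < D.n ∧ D.okLevels (L.base :: bs) ls = true ∧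
      Nat.card (fixing I (L.base :: bs)) ≤ (ls.map Level.len).prod ∧
      ∀ σ ∈ fixing I bs, ∀ i : Fin D.n, (i : Nat) = L.base →
        ∃ p, p < L.len ∧ ((σ i : Fin D.n) : Nat) = Nat.land (L.orb.word p) 65535 := by
  simp only [okLevels, okOrbit, Bool.and_eq_true, List.all_eq_true, List.mem_range, Nat.blt_eq,
    Nat.beq_eq, Bool.or_eq_true] at h
  obtain ⟨⟨⟨⟨⟨⟨⟨⟨hlen, horb0⟩, hbase⟩, hpos0⟩, hgens⟩, horb'⟩, hfix⟩, -⟩, hrest⟩ := h
  have horb := fun p hp => allBelow_spec horb' p hp
  simp only [Bool.and_eq_true, Bool.or_eq_true, Nat.blt_eq, Nat.beq_eq] at horb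
  have ih := levels_bound I hw ls _ hrest
  let b : Fin D.n := ⟨L.base, hbase⟩
  let K := fixing I bs
  have key : ∀ p, p < L.len → ∃ σ ∈ K, ((σ b : Fin D.n) : Nat) = Nat.land (L.orb.word p) 65535 := by
    intro p
    induction p using Nat.strong_induction_on with
    | _ p ihp =>
      intro hp
      obtain ⟨-, hp0 | ⟨⟨hpar, hk⟩, himg⟩⟩ := horb p hp
      · subst hp0
        exact ⟨1, one_mem _, by rw [horb0]; rfl⟩
      obtain ⟨σ, hσ, eσ⟩ := ihp _ hpar (hpar.trans hp)
      have hmem : L.gens.getD (Nat.shiftRight (L.orb.word p) 32) 0 ∈ L.gens := by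
        rw [List.getD_eq_getElem?_getD, List.getElem?_eq_getElem hk]
        exact List.getElem_mem hk
      obtain ⟨τ, hτ, eτ⟩ := elem_exists I hw _ (hgens _ hmem)
      have hτK : τ ∈ K := ⟨hτ, fun i hi => Fin.ext (by rw [eτ, hfix _ hmem i hi])⟩
      exact ⟨τ * σ, mul_mem hτK hσ, by rw [Perm.mul_apply, eτ, eσ, himg]⟩
  choose σ hσ eσ using key
  let φ : Fin L.len × fixing I (L.base :: bs) → K := fun q =>
    ⟨σ q.1 q.1.2 * (q.2 : Perm (Fin D.n)), mul_mem (hσ _ _)
      ⟨q.2.2.1, fun i hi => q.2.2.2 i (List.mem_cons_of_mem _ hi)⟩⟩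
  have hb : ∀ q, ((φ q : Perm (Fin D.n)) b : Nat) = Nat.land (L.orb.word q.1) 65535 := fun q => by
    show ((σ q.1 q.1.2 * (q.2 : Perm (Fin D.n))) b : Nat) = _
    rw [Perm.mul_apply, q.2.2.2 b (List.mem_cons_self ..), eσ]
  have hφ : Function.Injective φ := by
    rintro ⟨p, τ⟩ ⟨p', τ'⟩ h
    have e := congrArg (fun π : K => (((π : Perm (Fin D.n)) b : Fin D.n) : Nat)) h
    simp only [hb] at e
    have hp : (p : Nat) = p' := by rw [← (horb p p.2).1.2, ← (horb p' p'.2).1.2, e]
    obtain rfl : p = p' := Fin.ext hp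
    exact Prod.ext rfl (Subtype.ext (mul_left_cancel (congrArg Subtype.val h :)))
  have hcard := Nat.card_le_card_of_injective φ hφ
  rw [Nat.card_prod, Nat.card_eq_fintype_card (α := Fin L.len), Fintype.card_fin] at hcard
  refine ⟨hbase, hrest, Nat.le_of_mul_le_mul_left (hcard.trans hc) hlen, fun π hπ i hi => ?_⟩
  obtain rfl : i = b := Fin.ext hi
  have hs : Function.Surjective φ := by
    refine ((Nat.bijective_iff_injective_and_card φ).2 ⟨hφ, le_antisymm ?_ ?_⟩).2
    · rw [Nat.card_prod, Nat.card_eq_fintype_card (α := Fin L.len), Fintype.card_fin]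
      exact hcard
    · rw [Nat.card_prod, Nat.card_eq_fintype_card (α := Fin L.len), Fintype.card_fin]
      exact hc.trans (Nat.mul_le_mul_left _ ih)
  obtain ⟨q, hq⟩ := hs ⟨π, hπ⟩
  exact ⟨q.1, q.1.2, by rw [← hb q, hq]⟩

/-- the part of a centraliser fixing the listed points -/
def centFix (z : Perm (Fin D.n)) (bs : List Nat) : Subgroup (Perm (Fin D.n)) :=
  fixing I bs ⊓ Subgroup.centralizer {z}

theorem centFix_le (hw : D.okWords D.g D.words = true) (z : Nat) (ζ : Perm (Fin D.n))
    (hζ : ∀ i : Fin D.n, ((ζ i : Fin D.n) : Nat) = D.img z i) :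
    ∀ (ls : List Level) (fls : List (List Nat)) (bs : List Nat), D.okLevels bs ls = true →
      D.okFixed z ls fls = true → Nat.card (fixing I bs) ≤ (ls.map Level.len).prod →
        Nat.card (centFix I ζ bs) ≤ (fls.map List.length).prod
  | [], [], bs, _, _, hc => by
    refine (Nat.card_le_card_of_injective (fun σ : centFix I ζ bs => (⟨σ, σ.2.1⟩ : fixing I bs))
      fun a b h => Subtype.ext (congrArg Subtype.val h :)).trans ?_
    simpa using hc
  | [], _ :: _, _, _, h, _ => by simp [okFixed] at h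
  | _ :: _, [], _, _, h, _ => by simp [okFixed] at h
  | L :: ls, fl :: fls, bs, hl, hf, hc => by
    simp only [okFixed, Bool.and_eq_true] at hf
    obtain ⟨hf1, hf2⟩ := hf
    obtain ⟨hbase, hrest, hc', horb⟩ := level_exact I hw L ls bs hl (by simpa using hc)
    have ih := centFix_le hw z ζ hζ ls fls _ hrest hf2 hc'
    let b : Fin D.n := ⟨L.base, hbase⟩
    set C := centFix I ζ bs with hC
    have himg : ∀ π : C, ((π : Perm (Fin D.n)) b : Nat) ∈ fl.toFinset := by
      intro π
      obtain ⟨p, hp, he⟩ := horb π π.2.1 b rfl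
      have := allBelow_spec hf1 p hp
      simp only [Bool.or_eq_true, Bool.and_eq_true, Bool.not_eq_true', List.contains_iff_mem,
        Nat.beq_eq, ← he] at this
      refine List.mem_toFinset.2 (this.resolve_left fun hh => ?_)
      obtain ⟨h1, h2⟩ := hh
      have e : ζ b = b := Fin.ext (by rw [hζ]; exact h1)
      have e2 : ζ ((π : Perm (Fin D.n)) b) = (π : Perm (Fin D.n)) b := by
        rw [← Perm.mul_apply, ← Subgroup.mem_centralizer_singleton_iff.1 π.2.2, Perm.mul_apply, e]
      have h3 := hζ ((π : Perm (Fin D.n)) b)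
      rw [e2] at h3
      rw [← h3, ← Bool.not_eq_true, Nat.beq_eq] at h2
      exact h2 rfl
    let f : C → fl.toFinset := fun π => ⟨_, himg π⟩
    have hr : ∀ y : Set.range f, ∃ π : C, f π = y := fun y => y.2
    choose r hr using hr
    let ψ : C → fl.toFinset × centFix I ζ (L.base :: bs) := fun π =>
      (f π, ⟨((r ⟨f π, π, rfl⟩)⁻¹ * π : C), ⟨⟨((r ⟨f π, π, rfl⟩)⁻¹ * π : C).2.1.1, fun i hi => by
        rcases List.mem_cons.1 hi with hib | hib
        · obtain rfl : i = b := Fin.ext hib
          have e := congrArg (fun y : fl.toFinset => (y : Nat)) (hr ⟨f π, π, rfl⟩)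
          show ((r ⟨f π, π, rfl⟩ : Perm (Fin D.n))⁻¹ * (π : Perm (Fin D.n))) b = b
          rw [Perm.mul_apply, Perm.inv_eq_iff_eq]
          exact Fin.ext e.symm
        · exact ((r ⟨f π, π, rfl⟩)⁻¹ * π : C).2.1.2 i hib⟩,
        ((r ⟨f π, π, rfl⟩)⁻¹ * π : C).2.2⟩⟩)
    have hψ : Function.Injective ψ := by
      intro π π' h
      have h1 : f π = f π' := congrArg Prod.fst h
      have h2 : ((r ⟨f π, π, rfl⟩ : Perm (Fin D.n))⁻¹ * (π : Perm (Fin D.n))) =
          ((r ⟨f π', π', rfl⟩ : Perm (Fin D.n))⁻¹ * (π' : Perm (Fin D.n))) :=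
        congrArg Subtype.val (congrArg Prod.snd h)
      have h3 : (⟨f π, π, rfl⟩ : Set.range f) = ⟨f π', π', rfl⟩ := Subtype.ext h1
      rw [h3] at h2
      exact Subtype.ext (mul_left_cancel h2)
    refine (Nat.card_le_card_of_injective ψ hψ).trans ?_
    rw [Nat.card_prod, List.map_cons, List.prod_cons]
    refine Nat.mul_le_mul ?_ ih
    rw [Nat.card_eq_fintype_card, Fintype.card_coe]
    exact List.toFinset_card_le _

/-- the centraliser bound in a group embedded by a homomorphism -/
theorem centralizer_le_of_hom {G : Type*} [Group G] [Finite G]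
    (π : G →* Perm (Fin D.n)) (hπ : Function.Injective π) (hrange : π.range ≤ grp I)
    (hw : D.okWords D.g D.words = true) (ls : List Level) (hl : D.okLevels [] ls = true)
    (hcard : Nat.card (grp I) ≤ (ls.map Level.len).prod) (z : Nat) (x : G)
    (hx : ∀ i : Fin D.n, ((π x i : Fin D.n) : Nat) = D.img z i)
    (fls : List (List Nat)) (hf : D.okFixed z ls fls = true) :
    Nat.card (Subgroup.centralizer ({x} : Set G)) ≤ (fls.map List.length).prod := by
  have h1 : Nat.card (fixing I []) ≤ (ls.map Level.len).prod :=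
    (Nat.card_le_card_of_injective (fun σ : fixing I [] => (⟨σ, σ.2.1⟩ : grp I))
      fun a b h => Subtype.ext (congrArg Subtype.val h :)).trans hcard
  refine (Nat.card_le_card_of_injective (fun g : Subgroup.centralizer ({x} : Set G) =>
    (⟨π g, ⟨hrange ⟨g, rfl⟩, fun i hi => by simp at hi⟩, Subgroup.mem_centralizer_singleton_iff.2
      (by rw [← map_mul, ← map_mul, Subgroup.mem_centralizer_singleton_iff.1 g.2])⟩ :
        centFix I (π x) [])) ?_).trans (centFix_le I hw z (π x) hx ls fls [] hl hf h1)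
  intro a b h
  exact Subtype.ext (hπ (congrArg Subtype.val h :))

end PermData

end CfsgLib.PresCert
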