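import Cfsg.Agent.Lib.PresCert.Tree

/-!
A checker for coset-table certificates.

A certificate consists of a table on `n * g` slots (coset `c`, generator `x`).  Each slot carries
a target, a time stamp and a justification which only refers to slots of smaller time stamps:
either it is the definition of a coset, or it closes a loop whose label is a relator, or a loop
through coset `0` whose label is a subgroup generator, or it is one of the side facts, or it is
the reverse of another slot.  The side facts are loops, read up to free reduction, through table
slots and earlier side facts; they may use auxiliary cosets with numbers `≥ n`.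
-/

namespace CfsgLib.PresCert

/-- The data of a certificate. -/
structure Cert where
  /-- number of cosets -/
  n : Nat
  /-- number of auxiliary cosets -/
  v : Nat
  /-- number of generators -/
  g : Nat
  /-- index of the inverse generator -/
  inv : List Nat
  /-- relators -/
  rels : List (List Nat)
  /-- subgroup generators -/
  subs : List (List Nat)
  /-- table, one packed word for each slot -/
  tab : BTree
  /-- parent slot of each coset -/
  par : BTree
  /-- side facts `(source, label, target, time)`, packed -/
  fact : BTree
  /-- number of side facts -/
  nfact : Nat

namespace Cert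

variable (C : Cert)

/-- inverse generator -/
noncomputable def iv (x : Nat) : Nat := C.inv.getD x (nat_lit 0)

/-- packed slot -/
noncomputable def slot (c x : Nat) : Nat := C.tab.word (Nat.add (Nat.mul c C.g) x)

/-- target of a slot -/
noncomputable def dest (c x : Nat) : Nat := Nat.land (C.slot c x) (nat_lit 524287)

/-- time of a slot -/
noncomputable def time (c x : Nat) : Nat := Nat.land (Nat.shiftRight (C.slot c x) (nat_lit 19)) (nat_lit 524287)

/-- kind of justification of a slot -/
noncomputable def kind (c x : Nat) : Nat := Nat.land (Nat.shiftRight (C.slot c x) (nat_lit 38)) (nat_lit 7)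

/-- argument of justification of a slot -/
noncomputable def arg (c x : Nat) : Nat := Nat.shiftRight (C.slot c x) (nat_lit 41)

/-- parent coset -/
noncomputable def parC (v : Nat) : Nat := Nat.land (C.par.word v) (nat_lit 1048575)

/-- parent generator -/
noncomputable def parX (v : Nat) : Nat := Nat.shiftRight (C.par.word v) (nat_lit 20)

/-- source of a side fact -/
noncomputable def fSrc (i : Nat) : Nat := Nat.land (C.fact.word i) (nat_lit 1048575)

/-- label of a side fact; `g` means the empty label -/
noncomputable def fLab (i : Nat) : Nat := Nat.land (Nat.shiftRight (C.fact.word i) (nat_lit 20)) (nat_lit 15)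

/-- target of a side fact -/
noncomputable def fDst (i : Nat) : Nat := Nat.land (Nat.shiftRight (C.fact.word i) (nat_lit 24)) (nat_lit 1048575)

/-- time of a side fact -/
noncomputable def fTime (i : Nat) : Nat := Nat.shiftRight (C.fact.word i) (nat_lit 44)

/-- follow a word through slots of time less than `t` -/
noncomputable def walk (t : Nat) : List Nat → Nat → Option Nat
  | [], c => some c
  | x :: w, c =>
    bif Nat.blt c C.n && Nat.blt x C.g && Nat.blt (C.time c x) t then walk t w (C.dest c x)
    else none

/-- the justification of a slot -/
noncomputable def okSlot (c x : Nat) : Bool :=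
  match C.kind c x with
  | 0 => decide (c < C.dest c x ∧ C.dest c x < C.n ∧
      C.parC (C.dest c x) = c ∧ C.parX (C.dest c x) = x)
  | 1 =>
    let r := Nat.land (C.arg c x) (nat_lit 1023)
    let i := Nat.shiftRight (C.arg c x) (nat_lit 10)
    let w := C.rels.getD r []
    decide (r < C.rels.length ∧ i < w.length ∧ w.getD i C.g = x ∧ C.dest c x < C.n ∧
      C.walk (C.time c x) (w.drop (i + 1) ++ w.take i) (C.dest c x) = some c)
  | 2 =>
    let r := Nat.land (C.arg c x) (nat_lit 1023)
    let i := Nat.shiftRight (C.arg c x) (nat_lit 10)
    let w := C.subs.getD r []
    decide (r < C.subs.length ∧ i < w.length ∧ w.getD i C.g = x ∧ C.dest c x < C.n ∧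
      C.walk (C.time c x) (w.drop (i + 1)) (C.dest c x) = some 0 ∧
      C.walk (C.time c x) (w.take i) 0 = some c)
  | 3 =>
    let i := C.arg c x
    decide (i < C.nfact ∧ C.fTime i < C.time c x ∧ C.fSrc i = c ∧ C.fLab i = x ∧
      C.fDst i = C.dest c x ∧ C.dest c x < C.n)
  | _ =>
    let d := C.dest c x
    let y := C.iv x
    decide (d < C.n ∧ y < C.g ∧ C.iv y = x ∧ C.kind d y ≤ 3 ∧ C.dest d y = c ∧
      C.time d y = C.time c x)

/-- One step of the path proving a side fact: table slot, or an earlier fact read forwards or
backwards. -/
inductive Step where
  | edge : Nat → Step
  | fwd : Nat → Step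
  | bwd : Nat → Step

/-- The justification of a side fact: a definition of an auxiliary coset, or a path from the
target back to the source together with the relator (or none) to which the loop reduces. -/
inductive Just where
  | define : Just
  | loop : Option (Nat × Nat) → List Step → Just

/-- follow the steps of the justification of fact `k`, collecting the labels -/
noncomputable def trace (k : Nat) : List Step → Nat → Option (Nat × List Nat)
  | [], c => some (c, [])
  | .edge x :: s, c =>
    if c < C.n ∧ x < C.g ∧ C.time c x < C.fTime k then
      (trace k s (C.dest c x)).map fun p => (p.1, x :: p.2)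
    else none
  | .fwd i :: s, c =>
    if i < k ∧ C.fTime i ≤ C.fTime k ∧ C.fSrc i = c then
      (trace k s (C.fDst i)).map fun p =>
        (p.1, if C.fLab i = C.g then p.2 else C.fLab i :: p.2)
    else none
  | .bwd i :: s, c =>
    if i < k ∧ C.fTime i ≤ C.fTime k ∧ C.fDst i = c then
      (trace k s (C.fSrc i)).map fun p =>
        (p.1, if C.fLab i = C.g then p.2 else C.iv (C.fLab i) :: p.2)
    else none

/-- add a letter on the left of a freely reduced word -/
noncomputable def pushFree (x : Nat) : List Nat → List Nat
  | [] => [x]
  | y :: w => if C.iv x = y then w else x :: y :: w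

/-- free reduction -/
noncomputable def reduce : List Nat → List Nat
  | [] => []
  | x :: w => C.pushFree x (reduce w)

/-- the justification of a side fact -/
noncomputable def okFact (k : Nat) : Just → Bool
  | .define => decide (C.fSrc k < C.fDst k ∧ C.fDst k < C.n + C.v ∧ C.fLab k < C.g ∧
      C.parC (C.fDst k) = C.fSrc k ∧ C.parX (C.fDst k) = C.fLab k)
  | .loop tgt s =>
    match C.trace k s (C.fDst k) with
    | none => false
    | some p =>
      let l := if C.fLab k = C.g then p.2 else C.fLab k :: p.2
      match tgt with
      | none => decide (p.1 = C.fSrc k ∧ C.reduce l = [])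
      | some (r, i) =>
        let w := C.rels.getD r []
        decide (p.1 = C.fSrc k ∧ r < C.rels.length ∧
          C.reduce l = C.reduce (w.drop i ++ w.take i))

/-- all slots in a range of cosets are justified -/
noncomputable def okRange (lo len : Nat) : Bool :=
  allBelow len fun j => allBelow C.g fun x => C.okSlot (Nat.add lo j) x

/-- side facts numbered from `k` on are justified by the given list -/
noncomputable def okFacts : Nat → List Just → Bool
  | _, [] => true
  | k, j :: l => C.okFact k j && okFacts (k + 1) l

end Cert

end CfsgLib.PresCert
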