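import Cfsg.Agent.Lib.PresCert.PermSound

/-!
Orbits of a subgroup on its own cosets, read off from a permutation representation.
-/

namespace CfsgLib.PresCert

open Equiv

variable {G : Type*} [Group G]

section

variable {n : ℕ} (π : G →* Perm (Fin n)) (K : Subgroup G) (i₀ : Fin n)

theorem coset_bijection (hfix : ∀ k ∈ K, π k i₀ = i₀) (hidx : K.index = n)
    (htrans : ∀ i, ∃ g, π g i₀ = i) :
    ∃ φ : G ⧸ K ≃ Fin n, ∀ g : G, φ (g : G ⧸ K) = π g i₀ := by
  have hwd : ∀ a b : G, (QuotientGroup.leftRel K) a b → π a i₀ = π b i₀ := by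
    intro a b hab
    rw [QuotientGroup.leftRel_apply] at hab
    conv_rhs => rw [show b = a * (a⁻¹ * b) by simp]
    rw [map_mul, Perm.mul_apply, hfix _ hab]
  let f : G ⧸ K → Fin n := Quotient.lift (fun g => π g i₀) hwd
  have hs : Function.Surjective f := fun i => by
    obtain ⟨g, hg⟩ := htrans i
    exact ⟨(g : G ⧸ K), hg⟩
  have : Finite (G ⧸ K) := by
    rw [Subgroup.index_eq_card] at hidx
    exact Nat.finite_of_card_ne_zero (by rw [hidx]; exact (Fin.pos i₀).ne')
  have hc : Nat.card (G ⧸ K) = Nat.card (Fin n) := by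
    rw [← Subgroup.index_eq_card, hidx, Nat.card_eq_fintype_card, Fintype.card_fin]
  exact ⟨Equiv.ofBijective f ((Nat.bijective_iff_surjective_and_card f).2 ⟨hs, hc⟩), fun g => rfl⟩

theorem exists_orbit_ncard (hfix : ∀ k ∈ K, π k i₀ = i₀) (hidx : K.index = n)
    (htrans : ∀ i, ∃ g, π g i₀ = i) (b : Fin n) (m : ℕ)
    (hb : Set.ncard {i | ∃ k ∈ K, π k b = i} = m) :
    ∃ q : G ⧸ K, (MulAction.orbit K q).ncard = m := by
  obtain ⟨φ, hφ⟩ := coset_bijection π K i₀ hfix hidx htrans
  have hsmul : ∀ (k : G) (q : G ⧸ K), φ (k • q) = π k (φ q) := by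
    intro k q
    obtain ⟨g, rfl⟩ := QuotientGroup.mk_surjective q
    rw [MulAction.Quotient.smul_mk, hφ, hφ, smul_eq_mul, map_mul, Perm.mul_apply]
  refine ⟨φ.symm b, ?_⟩
  rw [← hb, ← Set.ncard_image_of_injective _ φ.injective]
  congr 1
  ext i
  constructor
  · rintro ⟨_, ⟨k, rfl⟩, rfl⟩
    refine ⟨k, k.2, ?_⟩
    show π (k : G) b = φ ((k : G) • φ.symm b)
    rw [hsmul, Equiv.apply_symm_apply]
  · rintro ⟨k, hk, rfl⟩
    exact ⟨(⟨k, hk⟩ : K) • φ.symm b, ⟨_, rfl⟩, by
      show φ (k • φ.symm b) = π k b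
      rw [hsmul, Equiv.apply_symm_apply]⟩

end

namespace PermData

variable {D : PermData} (I : Interp D)

/-- The orbit of the base point of a checked, closed level under the group generated by the
permutations named by the level. -/
theorem ncard_orbit (L : Level) (ho : D.okOrbit L = true) (hc : D.okClosed L = true)
    (hg : ∀ k ∈ L.gens, k < D.g) (S : Subgroup (Perm (Fin D.n)))
    (hS : S = Subgroup.closure {σ | ∃ k ∈ L.gens, I.gen k = σ}) (hb : L.base < D.n) :
    Set.ncard {i | ∃ σ ∈ S, σ ⟨L.base, hb⟩ = i} = L.len := by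
  subst hS
  simp only [okOrbit, Bool.and_eq_true, List.all_eq_true, Nat.blt_eq, Nat.beq_eq] at ho
  obtain ⟨⟨⟨⟨⟨hlen, horb0⟩, -⟩, -⟩, -⟩, horb'⟩ := ho
  have horb := fun p hp => allBelow_spec horb' p hp
  simp only [Bool.and_eq_true, Bool.or_eq_true, Nat.blt_eq, Nat.beq_eq] at horb
  simp only [okClosed, List.all_eq_true] at hc
  let pt : Fin L.len → Fin D.n := fun p => ⟨Nat.land (L.orb.word p) 65535, (horb p p.2).1.1⟩
  have hinj : Function.Injective pt := fun p q h => Fin.ext (by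
    rw [← (horb p p.2).1.2, ← (horb q q.2).1.2]
    exact congrArg _ (congrArg Fin.val h))
  suffices h : {i | ∃ σ ∈ Subgroup.closure {σ | ∃ k ∈ L.gens, I.gen k = σ},
      σ ⟨L.base, hb⟩ = i} = Set.range pt by
    rw [h, Set.ncard_range_of_injective hinj, Nat.card_eq_fintype_card, Fintype.card_fin]
  apply subset_antisymm
  · rintro _ ⟨σ, hσ, rfl⟩
    have key : ∀ x ∈ Set.range pt, σ x ∈ Set.range pt := by
      induction hσ using Subgroup.closure_induction'' with
      | mem σ hσ =>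
        obtain ⟨k, hk, rfl⟩ := hσ
        rintro _ ⟨p, rfl⟩
        have := allBelow_spec (hc k hk) p p.2
        simp only [Bool.and_eq_true, Nat.blt_eq, Nat.beq_eq] at this
        exact ⟨⟨_, this.1⟩, Fin.ext (by rw [I.gen_img k (hg k hk)]; exact this.2)⟩
      | inv_mem σ hσ =>
        obtain ⟨k, hk, rfl⟩ := hσ
        have hm : Set.MapsTo (I.gen k) (Set.range pt) (Set.range pt) := by
          rintro _ ⟨p, rfl⟩
          have := allBelow_spec (hc k hk) p p.2
          simp only [Bool.and_eq_true, Nat.blt_eq, Nat.beq_eq] at this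
          exact ⟨⟨_, this.1⟩, Fin.ext (by rw [I.gen_img k (hg k hk)]; exact this.2)⟩
        intro x hx
        exact Equiv.Perm.perm_symm_mapsTo_of_mapsTo _ hm hx
      | one => simp
      | mul a b _ _ iha ihb => exact fun x hx => iha _ (ihb x hx)
    exact key _ ⟨⟨0, hlen⟩, Fin.ext horb0⟩
  · rintro _ ⟨p, rfl⟩
    obtain ⟨p, hp⟩ := p
    induction p using Nat.strong_induction_on with
    | _ p ih =>
      obtain ⟨-, hp0 | ⟨⟨hpar, hk⟩, himg⟩⟩ := horb p hp
      · subst hp0
        exact ⟨1, one_mem _, Fin.ext horb0.symm⟩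
      obtain ⟨σ, hσ, eσ⟩ := ih _ hpar (hpar.trans hp)
      have hmem : L.gens.getD (Nat.shiftRight (L.orb.word p) 32) 0 ∈ L.gens := by
        rw [List.getD_eq_getElem?_getD, List.getElem?_eq_getElem hk]
        exact List.getElem_mem hk
      refine ⟨_, mul_mem (Subgroup.subset_closure ⟨_, hmem, rfl⟩) hσ, Fin.ext ?_⟩
      rw [Perm.mul_apply, eσ, I.gen_img _ (hg _ hmem)]
      exact himg

end PermData

end CfsgLib.PresCert
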