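import Cfsg.Agent.Lib.PresCert.Walk

/-!
Centralising elements and suborbits in certified coset tables.

If an element of the enumerated group centralises the subgroup generators then its coset lies in
a suborbit all of whose cosets coincide; either this suborbit is a single point, or the
coincidences propagate to all cosets and the subgroup is everything.
-/

namespace CfsgLib.PresCert

open Cfsg.Spor

/-- follow a word through the table -/
noncomputable def Cert.app (C : Cert) : List Nat → Nat → Nat
  | [], c => c
  | x :: w, c => app C w (C.dest c x)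

/-- Suborbit data: a forest of the subgroup's orbits and, for each root which is not fixed, the
data showing that identifying two points of its orbit identifies all cosets. -/
structure SubData where
  /-- the letters of the subgroup -/
  H : List Nat
  /-- `parent + 2^20 * depth + 2^32 * letter` -/
  forest : BTree
  /-- roots of the forest -/
  roots : List Nat
  /-- roots which are fixed -/
  fixed : List Nat
  /-- for each other root: the word back to `0`, a word to a second point, the word to the image
  of the second point, and words in the letters and this word reaching all roots -/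
  kill : List (Nat × List Nat × List Nat × List Nat × List (List (Option Nat)))

namespace SubData

variable (D : SubData) (C : Cert)

/-- one step of a reaching word -/
noncomputable def step (P : List Nat) : List (Option Nat) → Nat → Nat
  | [], c => c
  | some x :: w, c => step P w (C.dest c x)
  | none :: w, c => step P w (C.app P c)

/-- the data for one root is correct -/
noncomputable def okKill (e : Nat × List Nat × List Nat × List Nat × List (List (Option Nat))) : Bool :=
  let r := e.1
  let back := e.2.1
  let mv := e.2.2.1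
  let P := e.2.2.2.1
  let reach := e.2.2.2.2
  decide (r < C.n) && (back.all fun x => Nat.blt x C.g) && (mv.all fun x => D.H.contains x) &&
    (P.all fun x => Nat.blt x C.g) && Nat.beq (C.app back r) 0 &&
    Nat.beq (C.app P 0) (C.app back (C.app mv r)) &&
    (reach.all fun w => w.all fun o => match o with | some x => D.H.contains x | none => true) &&
    D.roots.all fun r' => reach.any fun w => Nat.beq (step C P w 0) r'

/-- the forest is correct at a point -/
noncomputable def okNode (c : Nat) : Bool :=
  let e := D.forest.word c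
  let p := Nat.land e (nat_lit 1048575)
  let k := Nat.land (Nat.shiftRight e (nat_lit 20)) (nat_lit 4095)
  let x := Nat.shiftRight e (nat_lit 32)
  bif Nat.beq k 0 then D.roots.contains c
  else Nat.blt p C.n && Nat.blt (Nat.land (Nat.shiftRight (D.forest.word p) (nat_lit 20)) (nat_lit 4095)) k &&
    D.H.contains x && Nat.beq (C.dest p x) c && Nat.beq (C.dest c x) p

/-- all the data is correct -/
noncomputable def ok : Bool :=
  (D.H.all fun x => Nat.blt x C.g) && allBelow C.n (fun c => D.okNode C c) &&
    (D.roots.all fun r => D.fixed.contains r || D.kill.any fun e => Nat.beq e.1 r) &&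
    D.kill.all fun e => D.okKill C e

variable {D C}

theorem root_of_point (h : D.ok C = true) {A : Nat → Prop}
    (hA : ∀ c < C.n, ∀ x ∈ D.H, A c → A (C.dest c x)) :
    ∀ c < C.n, ∃ r ∈ D.roots, (A c ↔ A r) := by
  simp only [ok, Bool.and_eq_true] at h
  have hn := allBelow_spec h.1.1.2
  suffices ∀ k c, c < C.n → Nat.land (Nat.shiftRight (D.forest.word c) (nat_lit 20)) (nat_lit 4095) = k →
      ∃ r ∈ D.roots, (A c ↔ A r) from fun c hc => this _ c hc rfl
  intro k
  induction k using Nat.strong_induction_on with
  | _ k ih =>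
    intro c hc hk
    have h' := hn c hc
    simp only [okNode, hk] at h'
    cases hb : Nat.beq k 0 with
    | true =>
      rw [hb, cond_true] at h'
      exact ⟨c, List.contains_iff_mem.1 h', Iff.rfl⟩
    | false =>
      simp only [hb, cond_false, Bool.and_eq_true] at h'
      obtain ⟨⟨⟨⟨hp, hlt⟩, hx⟩, h1⟩, h2⟩ := h'
      have hp' := Nat.le_of_ble_eq_true hp
      obtain ⟨r, hr, e⟩ := ih _ (Nat.le_of_ble_eq_true hlt) _ hp' rfl
      refine ⟨r, hr, Iff.trans ⟨fun a => ?_, fun a => ?_⟩ e⟩
      · rw [← Nat.eq_of_beq_eq_true h2]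
        exact hA _ hc _ (List.contains_iff_mem.1 hx) a
      · rw [← Nat.eq_of_beq_eq_true h1]
        exact hA _ hp' _ (List.contains_iff_mem.1 hx) a

end SubData

section Rel

variable {α : Type*} [DecidableEq α] {Q : Type*} [Group Q] {C : Cert} {sel : List α}
  {known : List (List α)} {subs : List (List α)} {d : α} {f : α → Q}

/-- The cosets of a certified table as right cosets of the given group. -/
theorem exists_reps {js : List Cert.Just} (V : Cert.Valid C js) (hf : ∀ x, f x * f x = 1)
    (hk : ∀ w ∈ known, (w.map f).prod = 1) (hr : okRels C sel known d = true)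
    (hs : okSubs C sel subs d = true) :
    ∃ v : Nat → Q, v 0 = 1 ∧
      (∀ c < C.n, ∀ x < C.g, v c * f (sel.getD x d) * (v (C.dest c x))⁻¹ ∈ wordsGroup subs f) ∧
      ∀ q ∈ lettersGroup sel f, ∃ c < C.n, q * (v c)⁻¹ ∈ wordsGroup subs f := by
  simp only [okRels, Bool.and_eq_true, decide_eq_true_eq, List.all_eq_true, Bool.or_eq_true,
    List.contains_iff_mem] at hr
  obtain ⟨⟨hg, hinv⟩, hrel⟩ := hr
  simp only [okSubs, Bool.and_eq_true, List.all_eq_true, decide_eq_true_eq] at hs
  obtain ⟨hsl, hs⟩ := hs
  set L := lettersGroup sel f with hL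
  have hmem : ∀ x, x < C.g → selGen sel d f x ∈ L := by
    intro x hx
    refine Subgroup.subset_closure ⟨sel.getD x d, ?_, rfl⟩
    rw [List.getD_eq_getElem?_getD, List.getElem?_eq_getElem (hg ▸ hx)]
    exact List.getElem_mem _
  let gen : Nat → L := fun x => if hx : x < C.g then ⟨selGen sel d f x, hmem x hx⟩ else 1
  have hgen : ∀ x < C.g, ((gen x : L) : Q) = selGen sel d f x := fun x hx => by simp [gen, hx]
  have hprod : ∀ r : List Nat, (∀ x ∈ r, x < C.g) →
      (((r.map gen).prod : L) : Q) = ((r.map fun x => sel.getD x d).map f).prod := by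
    intro r hr
    rw [← prod_map_selGen]
    induction r with
    | nil => simp
    | cons x r ih =>
      simp only [List.map_cons, List.prod_cons, Subgroup.coe_mul]
      rw [ih fun y hy => hr y (List.mem_cons_of_mem _ hy), hgen x (hr x (List.mem_cons_self ..))]
  let M : Model C L :=
    { gen := gen
      gen_inv := fun x hx => by
        have e : C.iv x = x := by
          simp [Cert.iv, hinv, List.getD_eq_getElem?_getD, List.getElem?_range hx]
        rw [e]
        refine ⟨hx, Subtype.ext ?_⟩
        rw [Subgroup.coe_inv, hgen x hx]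
        exact eq_inv_of_mul_eq_one_left (hf _)
      rels_eq := fun r hr => by
        obtain ⟨h1, h2⟩ := hrel r hr
        refine ⟨h1, Subtype.ext ?_⟩
        rw [hprod r h1, Subgroup.coe_one]
        rcases h2 with h2 | h2
        · exact hk _ h2
        · have := hk _ h2
          rwa [prod_reverse_of_invol f hf, inv_eq_one] at this
      sub := (wordsGroup subs f).subgroupOf L
      subs_mem := fun r hr => by
        rw [Subgroup.mem_subgroupOf]
        rw [hprod r (hsl r hr)]
        exact Subgroup.subset_closure ⟨_, hs ▸ List.mem_map.2 ⟨r, hr, rfl⟩, rfl⟩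
      closure_gen := by
        rw [eq_top_iff]
        rintro ⟨q, hq⟩ -
        induction hq using Subgroup.closure_induction'' with
        | mem q hq =>
          obtain ⟨a, ha, rfl⟩ := hq
          obtain ⟨i, hi, rfl⟩ := List.getElem_of_mem ha
          have hi' : i < C.g := hg ▸ hi
          refine Subgroup.subset_closure ⟨i, hi', Subtype.ext ?_⟩
          rw [hgen i hi', selGen, List.getD_eq_getElem?_getD, List.getElem?_eq_getElem hi]
          rfl
        | inv_mem q hq =>
          obtain ⟨a, ha, rfl⟩ := hq
          obtain ⟨i, hi, rfl⟩ := List.getElem_of_mem ha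
          have hi' : i < C.g := hg ▸ hi
          refine Subgroup.subset_closure ⟨i, hi', Subtype.ext ?_⟩
          rw [hgen i hi', selGen, List.getD_eq_getElem?_getD, List.getElem?_eq_getElem hi]
          exact eq_inv_of_mul_eq_one_left (hf _)
        | one => exact one_mem _
        | mul a b ha hb iha ihb =>
          exact mul_mem (iha) (ihb) }
  refine ⟨fun c => (Cert.val M c : L), by simp [Cert.val_zero], fun c hc x hx => ?_, fun q hq => ?_⟩
  · have h := Cert.slots_ok M V _ c x hc hx rfl
    rw [Cert.SlotOK, Cert.Rel] at h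
    have h' := Subgroup.mem_subgroupOf.1 h
    simpa [hgen x hx, selGen, M] using h'
  · obtain ⟨c, hc, h⟩ := Cert.exists_coset M V ⟨q, hq⟩
    exact ⟨c, hc, by simpa using Subgroup.mem_subgroupOf.1 h⟩

variable {v : Nat → Q} {K : Subgroup Q}

omit [DecidableEq α] in
theorem app_rel (hdest : ∀ c < C.n, ∀ x < C.g, C.dest c x < C.n)
    (hv : ∀ c < C.n, ∀ x < C.g, v c * f (sel.getD x d) * (v (C.dest c x))⁻¹ ∈ K) :
    ∀ (w : List Nat) (c : Nat), c < C.n → (∀ x ∈ w, x < C.g) →
      C.app w c < C.n ∧
        v c * ((w.map fun x => sel.getD x d).map f).prod * (v (C.app w c))⁻¹ ∈ K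
  | [], c, hc, _ => by simp [Cert.app, hc]
  | x :: w, c, hc, hw => by
    have hx := hw x (List.mem_cons_self ..)
    obtain ⟨h1, h2⟩ := app_rel hdest hv w (C.dest c x) (hdest c hc x hx)
      fun y hy => hw y (List.mem_cons_of_mem _ hy)
    refine ⟨h1, ?_⟩
    have := K.mul_mem (hv c hc x hx) h2
    simp only [List.map_cons, List.prod_cons, Cert.app]
    convert this using 1
    group

omit [DecidableEq α] in
/-- A centralising element lies in the coset of a fixed root, or all generators lie in the
subgroup. -/
theorem centralizing_coset {D : SubData} (hD : D.ok C = true)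
    (hdest : ∀ c < C.n, ∀ x < C.g, C.dest c x < C.n) (h0 : v 0 = 1)
    (hv : ∀ c < C.n, ∀ x < C.g, v c * f (sel.getD x d) * (v (C.dest c x))⁻¹ ∈ K)
    (hH : ∀ x ∈ D.H, f (sel.getD x d) ∈ K) {q : Q} (hq : ∀ x ∈ D.H, Commute q (f (sel.getD x d)))
    {c₀ : Nat} (hc₀ : c₀ < C.n) (hqc : q * (v c₀)⁻¹ ∈ K) :
    (∃ r ∈ D.fixed, q * (v r)⁻¹ ∈ K) ∨ ∀ x < C.g, f (sel.getD x d) ∈ K := by
  have hD' := hD
  simp only [SubData.ok, Bool.and_eq_true, List.all_eq_true, Nat.blt_eq, Bool.or_eq_true,
    List.any_eq_true, List.contains_iff_mem] at hD'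
  obtain ⟨⟨⟨hHg, -⟩, hroots⟩, hkill⟩ := hD'
  have hA : ∀ c < C.n, ∀ x ∈ D.H, q * (v c)⁻¹ ∈ K → q * (v (C.dest c x))⁻¹ ∈ K := by
    intro c hc x hx ha
    have hxg := hHg x hx
    have h1 := K.mul_mem (K.mul_mem (K.inv_mem (hH x hx)) ha) (hv c hc x hxg)
    convert h1 using 1
    have e : (f (sel.getD x d))⁻¹ * q = q * (f (sel.getD x d))⁻¹ := (hq x hx).inv_right.eq.symm
    calc q * (v (C.dest c x))⁻¹ = q * (f (sel.getD x d))⁻¹ * (f (sel.getD x d) * (v (C.dest c x))⁻¹) := by
          group
      _ = _ := by rw [← e]; group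
  obtain ⟨r, hr, e⟩ := SubData.root_of_point hD (A := fun c => q * (v c)⁻¹ ∈ K) hA c₀ hc₀
  have hqr := e.1 hqc
  rcases hroots r hr with hf' | ⟨e', he, hre⟩
  · exact Or.inl ⟨r, hf', hqr⟩
  refine Or.inr ?_
  obtain ⟨r', back, mv, P, reach⟩ := e'
  obtain rfl : r' = r := Nat.eq_of_beq_eq_true hre
  have hk := hkill _ he
  simp only [SubData.okKill, Bool.and_eq_true, decide_eq_true_eq, List.all_eq_true, Nat.blt_eq,
    List.contains_iff_mem, List.any_eq_true] at hk
  obtain ⟨⟨⟨⟨⟨⟨⟨hrn, hback⟩, hmv⟩, hP⟩, hb0⟩, hP0⟩, hreach⟩, hall⟩ := hk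
  -- the second point and its image
  have hm : ∀ (w : List Nat) (c : Nat), c < C.n → (∀ x ∈ w, x ∈ D.H) → q * (v c)⁻¹ ∈ K →
      q * (v (C.app w c))⁻¹ ∈ K := by
    intro w
    induction w with
    | nil => exact fun c _ _ h => h
    | cons x w ih =>
      intro c hc hw h
      have hx := hw x (List.mem_cons_self ..)
      exact ih _ (hdest c hc x (hHg x hx)) (fun y hy => hw y (List.mem_cons_of_mem _ hy))
        (hA c hc x hx h)
  have hqm := hm mv r' hrn hmv hqr
  obtain ⟨hmn, -⟩ := app_rel hdest hv mv r' hrn fun x hx => hHg x (hmv x hx)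
  obtain ⟨-, hbr⟩ := app_rel hdest hv back r' hrn hback
  obtain ⟨hkn, hbm⟩ := app_rel hdest hv back (C.app mv r') hmn hback
  rw [Nat.eq_of_beq_eq_true hb0, h0, inv_one, mul_one] at hbr
  set k := C.app back (C.app mv r') with hkdef
  have hSk : v k ∈ K := by
    have h1 := K.mul_mem (K.inv_mem hbm) (K.mul_mem (K.inv_mem hqm) (K.mul_mem hqr hbr))
    convert h1 using 1
    group
  obtain ⟨-, hPr⟩ := app_rel hdest hv P 0 (Nat.zero_lt_of_lt hrn) hP
  rw [h0, one_mul, Nat.eq_of_beq_eq_true hP0] at hPr
  have hPK : ((P.map fun x => sel.getD x d).map f).prod ∈ K := by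
    simpa using K.mul_mem hPr hSk
  have hstep : ∀ (w : List (Option Nat)) (c : Nat), c < C.n →
      (∀ o ∈ w, (match o with | some x => D.H.contains x | none => true) = true) →
      v c ∈ K → v (SubData.step C P w c) ∈ K := by
    intro w
    induction w with
    | nil => exact fun c _ _ h => h
    | cons o w ih =>
      intro c hc hw h
      have ho := hw o (List.mem_cons_self ..)
      have hw' := fun o' h' => hw o' (List.mem_cons_of_mem _ h')
      cases o with
      | some x =>
        have hx : x ∈ D.H := List.contains_iff_mem.1 ho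
        refine ih _ (hdest c hc x (hHg x hx)) hw' ?_
        convert K.mul_mem (K.inv_mem (hv c hc x (hHg x hx))) (K.mul_mem h (hH x hx)) using 1
        group
      | none =>
        obtain ⟨h1, h2⟩ := app_rel hdest hv P c hc hP
        refine ih _ h1 hw' ?_
        convert K.mul_mem (K.inv_mem h2) (K.mul_mem h hPK) using 1
        group
  have hS : ∀ c < C.n, ∀ x ∈ D.H, v c ∈ K → v (C.dest c x) ∈ K := fun c hc x hx h => by
    convert K.mul_mem (K.inv_mem (hv c hc x (hHg x hx))) (K.mul_mem h (hH x hx)) using 1
    group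
  intro x hx
  obtain ⟨r', hr', e''⟩ := SubData.root_of_point hD (A := fun c => v c ∈ K) hS _
    (hdest 0 (Nat.zero_lt_of_lt hrn) x hx)
  obtain ⟨w, hw, hwr⟩ := hall r' hr'
  have hr'S : v r' ∈ K := by
    rw [← Nat.eq_of_beq_eq_true hwr]
    exact hstep w 0 (Nat.zero_lt_of_lt hrn) (fun o ho => hreach w hw o ho) (by rw [h0]; exact K.one_mem)
  have := K.mul_mem (hv 0 (Nat.zero_lt_of_lt hrn) x hx) (e''.2 hr'S)
  simpa [h0] using this

end Rel

end CfsgLib.PresCert
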