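import Cfsg.Agent.Lib.PresCert.Tree

/-!
Permutations given by packed tables, and lower bounds for the orders of groups generated by them
from orbits along a base.
-/

namespace CfsgLib.PresCert

/-- Data for a lower bound on the order of a group of permutations of `Fin n`. -/
structure PermData where
  /-- degree -/
  n : Nat
  /-- number of given generators -/
  g : Nat
  /-- images: entry `k * n + i` is the image of `i` under element `k` -/
  tab : BTree
  /-- for each further element, the word in earlier elements (first letter acts first) -/
  words : List (List Nat)

/-- One level: base point, indices of its generators, orbit length, orbit entries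
(`point + 2^16 * parent + 2^32 * generator`), and positions of the orbit points. -/
structure Level where
  base : Nat
  gens : List Nat
  len : Nat
  orb : BTree
  pos : BTree

namespace PermData

variable (D : PermData)

/-- image of a point under an element -/
noncomputable def img (k i : Nat) : Nat := D.tab.half (Nat.add (Nat.mul k D.n) i)

/-- apply a word, first letter first -/
noncomputable def app : List Nat → Nat → Nat
  | [], i => i
  | k :: w, i => app w (D.img k i)

/-- the further elements are the products they claim to be -/
noncomputable def okWords : Nat → List (List Nat) → Bool
  | _, [] => true
  | k, w :: l =>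
    (w.all fun j => Nat.blt j k) &&
      (allBelow D.n fun i => Nat.beq (D.app w i) (D.img k i)) && okWords (k + 1) l

/-- the orbit of a level is correct -/
noncomputable def okOrbit (L : Level) : Bool :=
  Nat.blt 0 L.len && Nat.beq (Nat.land (L.orb.word (nat_lit 0)) (nat_lit 65535)) L.base && Nat.blt L.base D.n &&
    Nat.beq (L.pos.word L.base) 0 &&
    (L.gens.all fun k => Nat.blt k (D.g + D.words.length)) &&
    allBelow L.len fun p =>
      let e := L.orb.word p
      let pt := Nat.land e (nat_lit 65535)
      let par := Nat.land (Nat.shiftRight e (nat_lit 16)) (nat_lit 65535)
      let k := L.gens.getD (Nat.shiftRight e (nat_lit 32)) (nat_lit 0)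
      Nat.blt pt D.n && Nat.beq (L.pos.word pt) p &&
        (Nat.beq p 0 || (Nat.blt par p && Nat.blt (Nat.shiftRight e (nat_lit 32)) L.gens.length &&
          Nat.beq (D.img k (Nat.land (L.orb.word par) (nat_lit 65535))) pt))

/-- every level is correct and its generators fix the earlier base points -/
noncomputable def okLevels : List Nat → List Level → Bool
  | _, [] => true
  | bs, L :: ls =>
    D.okOrbit L &&
      (L.gens.all fun k => bs.all fun b => Nat.beq (D.img k b) b) &&
      (ls.all fun L' => L'.gens.all fun k => Nat.beq (D.img k L.base) L.base) &&
      okLevels (L.base :: bs) ls

/-- the orbit of a level is closed under its generators -/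
noncomputable def okClosed (L : Level) : Bool :=
  L.gens.all fun k => allBelow L.len fun p =>
    let q := D.img k (Nat.land (L.orb.word p) (nat_lit 65535))
    let r := L.pos.word q
    Nat.blt r L.len && Nat.beq (Nat.land (L.orb.word r) (nat_lit 65535)) q

end PermData

end CfsgLib.PresCert
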