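import Cfsg.Agent.Lib.PresCert.CosetAction

/-!
A simplicity criterion for a transitive group whose degree contains the full power of a prime
dividing the group order.
-/

namespace CfsgLib.PresCert

/-- If every nontrivial normal subgroup has order divisible by `p ^ k`, `p ^ (k + 1)` does not
divide the order, and some element, which normally generates, is a quotient of two elements of
order dividing `p`, the group is simple. -/
theorem isSimpleGroup_of_primePow {G : Type*} [Group G] [Finite G] [Nontrivial G] (p k : ℕ)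
    [Fact p.Prime] (hpk : ¬ p ^ (k + 1) ∣ Nat.card G)
    (hdiv : ∀ N : Subgroup G, N.Normal → N ≠ ⊥ → p ^ k ∣ Nat.card N)
    (u v : G) (hu : u ^ p = 1) (hv : v ^ p = 1)
    (hgen : ∀ N : Subgroup G, N.Normal → v * u⁻¹ ∈ N → N = ⊤) : IsSimpleGroup G := by
  refine { eq_bot_or_eq_top_of_normal := fun N hN => ?_ }
  by_cases hb : N = ⊥
  · exact Or.inl hb
  right
  have hidx : ¬ p ∣ N.index := by
    intro h
    exact hpk (by rw [← N.card_mul_index, pow_succ]; exact mul_dvd_mul (hdiv N hN hb) h)
  have hmem : ∀ x : G, x ^ p = 1 → x ∈ N := by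
    intro x hx
    have h1 : (QuotientGroup.mk' N x) ^ p = 1 := by rw [← map_pow, hx, map_one]
    have h2 : orderOf (QuotientGroup.mk' N x) ∣ Nat.card (G ⧸ N) := orderOf_dvd_natCard _
    rw [← Subgroup.index_eq_card] at h2
    have h3 : orderOf (QuotientGroup.mk' N x) ∣ p := orderOf_dvd_of_pow_eq_one h1
    rcases (Fact.out : p.Prime).eq_one_or_self_of_dvd _ h3 with h | h
    · exact (QuotientGroup.eq_one_iff x).1 (orderOf_eq_one_iff.1 h)
    · exact absurd (h ▸ h2) hidx
  exact hgen N hN (N.mul_mem (hmem v hv) (N.inv_mem (hmem u hu)))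

end CfsgLib.PresCert
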