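import Cfsg.Agent.Lib.PresCert.Check

/-!
Soundness of the checker for coset-table certificates.
-/

namespace CfsgLib.PresCert

/-- The group-theoretic meaning of a certificate. -/
structure Model (C : Cert) (Q : Type*) [Group Q] where
  /-- the generators -/
  gen : Nat → Q
  gen_inv : ∀ x < C.g, C.iv x < C.g ∧ gen (C.iv x) = (gen x)⁻¹
  rels_eq : ∀ r ∈ C.rels, (∀ x ∈ r, x < C.g) ∧ (r.map gen).prod = 1
  /-- the subgroup -/
  sub : Subgroup Q
  subs_mem : ∀ r ∈ C.subs, (r.map gen).prod ∈ sub
  closure_gen : Subgroup.closure {q | ∃ x < C.g, gen x = q} = ⊤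

namespace Cert

variable {C : Cert} {Q : Type*} [Group Q] (M : Model C Q)

/-- value of a coset by following parents -/
noncomputable def valAux : Nat → Nat → Q
  | 0, _ => 1
  | k + 1, v => if v = 0 ∨ v ≤ C.parC v then 1 else valAux k (C.parC v) * M.gen (C.parX v)

/-- value of a coset -/
noncomputable def val (v : Nat) : Q := valAux M v v

theorem valAux_eq : ∀ k v, v ≤ k → valAux M k v = valAux M v v := by
  intro k
  induction k using Nat.strong_induction_on with
  | _ k ih =>
    intro v hv
    rcases k with _ | k
    · simp [show v = 0 by omega]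
    rcases v with _ | v
    · simp [valAux]
    simp only [valAux]
    by_cases h : v + 1 = 0 ∨ v + 1 ≤ C.parC (v + 1)
    · rw [if_pos h, if_pos h]
    · have h' : C.parC (v + 1) ≤ v := by omega
      rw [if_neg h, if_neg h, ih k (by omega) _ (by omega), ih v (by omega) _ h']

theorem val_zero : val M 0 = 1 := rfl

theorem val_step {v : Nat} (h : C.parC v < v) :
    val M v = val M (C.parC v) * M.gen (C.parX v) := by
  rcases v with _ | v
  · omega
  simp only [val, valAux]
  rw [if_neg (by omega), valAux_eq M v _ (by omega)]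

/-- the relation asserted by a slot or fact with a word as label -/
def Rel (a : Nat) (q : Q) (b : Nat) : Prop := val M a * q * (val M b)⁻¹ ∈ M.sub

theorem rel_trans {a b c : Nat} {p q : Q} (h₁ : Rel M a p b) (h₂ : Rel M b q c) :
    Rel M a (p * q) c := by
  have := M.sub.mul_mem h₁ h₂
  simpa [Rel, mul_assoc] using this

theorem rel_symm {a b : Nat} {q : Q} (h : Rel M a q b) : Rel M b q⁻¹ a := by
  have := M.sub.inv_mem h
  simpa [Rel, mul_assoc] using this

theorem rel_refl (a : Nat) : Rel M a 1 a := by simp [Rel]

/-- the meaning of a slot -/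
def SlotOK (c x : Nat) : Prop := Rel M c (M.gen x) (C.dest c x)

/-- the label of a fact -/
noncomputable def labVal (i : Nat) : Q := if C.fLab i = C.g then 1 else M.gen (C.fLab i)

/-- the meaning of a fact -/
def FactOK (i : Nat) : Prop := Rel M (C.fSrc i) (labVal M i) (C.fDst i)

/-- the value of a word -/
noncomputable def wval (w : List Nat) : Q := (w.map M.gen).prod

theorem wval_cons (x : Nat) (w : List Nat) : wval M (x :: w) = M.gen x * wval M w := by
  simp [wval]

theorem wval_append (u w : List Nat) : wval M (u ++ w) = wval M u * wval M w := by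
  simp [wval]

theorem walk_sound {t : Nat} (hs : ∀ c x, c < C.n → x < C.g → C.time c x < t → SlotOK M c x) :
    ∀ (w : List Nat) (a b : Nat), C.walk t w a = some b → Rel M a (wval M w) b := by
  intro w
  induction w with
  | nil =>
    intro a b h
    simp only [walk, Option.some.injEq] at h
    subst h
    simpa [wval] using rel_refl M a
  | cons x w ih =>
    intro a b h
    simp only [walk] at h
    cases hb : (Nat.blt a C.n && Nat.blt x C.g && Nat.blt (C.time a x) t) with
    | false => simp [hb] at h
    | true =>
      simp only [hb, cond_true] at h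
      simp only [Bool.and_eq_true, Nat.blt_eq] at hb
      rw [wval_cons]
      exact rel_trans M (hs a x hb.1.1 hb.1.2 hb.2) (ih _ _ h)

theorem pushFree_sound (x : Nat) (hx : x < C.g) (w : List Nat) (hw : ∀ y ∈ w, y < C.g) :
    (∀ y ∈ C.pushFree x w, y < C.g) ∧ wval M (C.pushFree x w) = M.gen x * wval M w := by
  cases w with
  | nil => simp [pushFree, wval, hx]
  | cons y w =>
    simp only [pushFree]
    split_ifs with h
    · refine ⟨fun z hz => hw z (List.mem_cons_of_mem _ hz), ?_⟩
      rw [wval_cons, ← h, (M.gen_inv x hx).2]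
      simp
    · refine ⟨fun z hz => ?_, by rw [wval_cons]⟩
      rcases List.mem_cons.1 hz with rfl | hz
      · exact hx
      · exact hw z hz

theorem reduce_sound : ∀ (w : List Nat), (∀ y ∈ w, y < C.g) →
    (∀ y ∈ C.reduce w, y < C.g) ∧ wval M (C.reduce w) = wval M w
  | [], _ => by simp [reduce]
  | x :: w, h => by
    have hr := reduce_sound w fun y hy => h y (List.mem_cons_of_mem _ hy)
    have hp := pushFree_sound M x (h x (List.mem_cons_self ..)) _ hr.1
    exact ⟨hp.1, by rw [wval_cons, ← hr.2]; exact hp.2⟩

theorem fLab_cases {i : Nat} (h : C.fLab i ≤ C.g) :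
    (C.fLab i = C.g ∧ labVal M i = 1) ∨
      (C.fLab i < C.g ∧ labVal M i = M.gen (C.fLab i)) := by
  rcases h.lt_or_eq with h | h
  · right; exact ⟨h, by simp [labVal, h.ne]⟩
  · left; exact ⟨h, by simp [labVal, h]⟩

theorem trace_sound {k : Nat}
    (hs : ∀ c x, c < C.n → x < C.g → C.time c x < C.fTime k → SlotOK M c x)
    (hl : ∀ i < k, C.fLab i ≤ C.g)
    (hf : ∀ i < k, C.fTime i ≤ C.fTime k → FactOK M i) :
    ∀ (s : List Step) (a : Nat) (p : Nat × List Nat), C.trace k s a = some p →
      (∀ y ∈ p.2, y < C.g) ∧ Rel M a (wval M p.2) p.1 := by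
  intro s
  induction s with
  | nil =>
    intro a p h
    simp only [trace, Option.some.injEq] at h
    subst h
    exact ⟨by simp, by simpa [wval] using rel_refl M a⟩
  | cons st s ih =>
    intro a p h
    cases st with
    | edge x =>
      simp only [trace] at h
      split at h
      swap
      · simp at h
      rename_i hc
      obtain ⟨q, hq, rfl⟩ := Option.map_eq_some_iff.1 h
      obtain ⟨h1, h2⟩ := ih _ _ hq
      refine ⟨fun y hy => ?_, ?_⟩
      · rcases List.mem_cons.1 hy with rfl | hy
        · exact hc.2.1
        · exact h1 y hy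
      · rw [wval_cons]
        exact rel_trans M (hs a x hc.1 hc.2.1 hc.2.2) h2
    | fwd i =>
      simp only [trace] at h
      split at h
      swap
      · simp at h
      rename_i hc
      obtain ⟨q, hq, rfl⟩ := Option.map_eq_some_iff.1 h
      obtain ⟨h1, h2⟩ := ih _ _ hq
      have hfi := hf i hc.1 hc.2.1
      rw [FactOK, hc.2.2] at hfi
      rcases fLab_cases M (hl i hc.1) with ⟨hg, hv⟩ | ⟨hg, hv⟩
      · simp only [hg, if_true]
        exact ⟨h1, by simpa [hv] using rel_trans M hfi h2⟩
      · simp only [if_neg hg.ne]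
        refine ⟨fun y hy => ?_, ?_⟩
        · rcases List.mem_cons.1 hy with rfl | hy
          · exact hg
          · exact h1 y hy
        · rw [wval_cons, ← hv]
          exact rel_trans M hfi h2
    | bwd i =>
      simp only [trace] at h
      split at h
      swap
      · simp at h
      rename_i hc
      obtain ⟨q, hq, rfl⟩ := Option.map_eq_some_iff.1 h
      obtain ⟨h1, h2⟩ := ih _ _ hq
      have hfi := rel_symm M (hf i hc.1 hc.2.1)
      rw [hc.2.2] at hfi
      rcases fLab_cases M (hl i hc.1) with ⟨hg, hv⟩ | ⟨hg, hv⟩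
      · simp only [hg, if_true]
        exact ⟨h1, by simpa [hv] using rel_trans M hfi h2⟩
      · simp only [if_neg hg.ne]
        refine ⟨fun y hy => ?_, ?_⟩
        · rcases List.mem_cons.1 hy with rfl | hy
          · exact (M.gen_inv _ hg).1
          · exact h1 y hy
        · rw [wval_cons, (M.gen_inv _ hg).2, ← hv]
          exact rel_trans M hfi h2

theorem rels_getD {r : Nat} (hr : r < C.rels.length) :
    (∀ y ∈ C.rels.getD r [], y < C.g) ∧ wval M (C.rels.getD r []) = 1 := by
  have : C.rels.getD r [] ∈ C.rels := by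
    rw [List.getD_eq_getElem?_getD, List.getElem?_eq_getElem hr]
    exact List.getElem_mem hr
  exact M.rels_eq _ this

theorem rotate_eq_one {w : List Nat} (h : wval M w = 1) (i : Nat) :
    wval M (w.drop i ++ w.take i) = 1 := by
  rw [← List.take_append_drop i w, wval_append] at h
  rw [wval_append]
  exact mul_eq_one_comm.1 h

theorem fact_sound {k : Nat} {j : Just} (hj : C.okFact k j = true) (hk : C.fLab k ≤ C.g)
    (hs : ∀ c x, c < C.n → x < C.g → C.time c x < C.fTime k → SlotOK M c x)
    (hl : ∀ i < k, C.fLab i ≤ C.g)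
    (hf : ∀ i < k, C.fTime i ≤ C.fTime k → FactOK M i) : FactOK M k := by
  cases j with
  | define =>
    simp only [okFact, decide_eq_true_eq] at hj
    obtain ⟨h1, -, h3, h4, h5⟩ := hj
    have := val_step M (v := C.fDst k) (by omega)
    rw [h4, h5] at this
    simp [FactOK, Rel, labVal, h3.ne, this]
  | loop tgt s =>
    simp only [okFact] at hj
    split at hj
    · simp at hj
    rename_i p hp
    obtain ⟨h1, h2⟩ := trace_sound M hs hl hf s _ p hp
    -- the loop has trivial value
    have key : p.1 = C.fSrc k → labVal M k * wval M p.2 = 1 → FactOK M k := by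
      intro he hz
      rw [he] at h2
      have := rel_symm M h2
      rw [← eq_inv_of_mul_eq_one_left hz] at this
      exact this
    have hl' : ∀ y ∈ (if C.fLab k = C.g then p.2 else C.fLab k :: p.2), y < C.g := by
      split_ifs with hg
      · exact h1
      · intro y hy
        rcases List.mem_cons.1 hy with rfl | hy
        · omega
        · exact h1 y hy
    have hl'' : wval M (if C.fLab k = C.g then p.2 else C.fLab k :: p.2) =
        labVal M k * wval M p.2 := by
      split_ifs with hg <;> simp [labVal, hg, wval]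
    cases tgt with
    | none =>
      simp only [decide_eq_true_eq] at hj
      refine key hj.1 ?_
      rw [← hl'', ← (reduce_sound M _ hl').2, hj.2]
      simp [wval]
    | some q =>
      obtain ⟨r, i⟩ := q
      simp only [decide_eq_true_eq] at hj
      obtain ⟨he, hr, hred⟩ := hj
      refine key he ?_
      obtain ⟨hw1, hw2⟩ := rels_getD M hr
      have hrot : ∀ y ∈ (C.rels.getD r []).drop i ++ (C.rels.getD r []).take i, y < C.g := by
        intro y hy
        rcases List.mem_append.1 hy with hy | hy
        · exact hw1 y (List.mem_of_mem_drop hy)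
        · exact hw1 y (List.mem_of_mem_take hy)
      rw [← hl'', ← (reduce_sound M _ hl').2, hred, (reduce_sound M _ hrot).2]
      exact rotate_eq_one M hw2 i

theorem split_getD {w : List Nat} {i x d : Nat} (hi : i < w.length) (hx : w.getD i d = x) :
    w = w.take i ++ x :: w.drop (i + 1) := by
  subst hx
  rw [List.getD_eq_getElem?_getD, List.getElem?_eq_getElem hi, Option.getD_some,
    List.cons_getElem_drop_succ, List.take_append_drop]

theorem loop_sound {c a : Nat} {x u : Q} (h : Rel M a u c) (e : x * u = 1) : Rel M c x a := by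
  have := rel_symm M h
  rwa [← eq_inv_of_mul_eq_one_left e] at this

theorem slot_sound {c x : Nat} (hj : C.okSlot c x = true) (hk : C.kind c x ≤ 3)
    (hs : ∀ c' x', c' < C.n → x' < C.g → C.time c' x' < C.time c x → SlotOK M c' x')
    (hf : ∀ i < C.nfact, C.fTime i < C.time c x → FactOK M i) (hx : x < C.g) :
    SlotOK M c x := by
  unfold okSlot at hj
  split at hj
  · simp only [decide_eq_true_eq] at hj
    obtain ⟨h1, -, h3, h4⟩ := hj
    have := val_step M (v := C.dest c x) (by omega)
    rw [h3, h4] at this
    simp [SlotOK, Rel, this]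
  · simp only [decide_eq_true_eq] at hj
    obtain ⟨hr, hi, hxw, -, hw⟩ := hj
    obtain ⟨-, hone⟩ := rels_getD M hr
    rw [split_getD hi hxw, wval_append, wval_cons] at hone
    refine loop_sound M (walk_sound M hs _ _ _ hw) ?_
    rw [wval_append, ← mul_assoc]
    exact mul_eq_one_comm.1 hone
  · simp only [decide_eq_true_eq] at hj
    obtain ⟨hr, hi, hxw, -, hw2, hw1⟩ := hj
    set w := C.subs.getD (Nat.land (C.arg c x) 1023) [] with hwdef
    set i := Nat.shiftRight (C.arg c x) 10
    have hmem : w ∈ C.subs := by
      rw [hwdef, List.getD_eq_getElem?_getD, List.getElem?_eq_getElem hr]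
      exact List.getElem_mem hr
    have hw : wval M w ∈ M.sub := M.subs_mem w hmem
    rw [split_getD hi hxw, wval_append, wval_cons] at hw
    have A := walk_sound M hs _ _ _ hw1
    have B := walk_sound M hs _ _ _ hw2
    simp only [Rel, val_zero, one_mul, inv_one, mul_one] at A B
    have := M.sub.mul_mem (M.sub.mul_mem (M.sub.inv_mem A) hw) (M.sub.inv_mem B)
    simpa [SlotOK, Rel, mul_assoc] using this
  · simp only [decide_eq_true_eq] at hj
    obtain ⟨hi, ht, h1, h2, h3, -⟩ := hj
    have := hf _ hi ht
    simp only [FactOK, labVal, h1, h2, h3, if_neg hx.ne] at this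
    exact this
  · rename_i e0 e1 e2 e3
    exfalso
    rcases Nat.lt_or_ge (C.kind c x) 4 with hlt | hge
    · interval_cases hkk : C.kind c x <;> first | exact e0 rfl | exact e1 rfl | exact e2 rfl | exact e3 rfl
    · omega

/-- All checks of a certificate. -/
structure Valid (C : Cert) (js : List Just) : Prop where
  facts : C.okFacts 0 js = true
  len : js.length = C.nfact
  labs : ((List.range C.nfact).all fun i => Nat.ble (C.fLab i) C.g) = true
  slots : ∀ c < C.n, ∀ x < C.g, C.okSlot c x = true
  pos : 0 < C.n

theorem okFacts_get : ∀ (js : List Just) (k : Nat), C.okFacts k js = true →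
    ∀ i, ∀ h : i < js.length, C.okFact (k + i) js[i] = true
  | [], _, _, i, h => by simp at h
  | j :: l, k, h, i, hi => by
    simp only [okFacts, Bool.and_eq_true] at h
    rcases i with _ | i
    · simpa using h.1
    · have := okFacts_get l (k + 1) h.2 i (by simpa using hi)
      simpa [add_assoc, add_comm 1 i] using this

theorem slots_ok {js : List Just} (V : Valid C js) :
    ∀ t, ∀ c x, c < C.n → x < C.g → C.time c x = t → SlotOK M c x := by
  intro t
  induction t using Nat.strong_induction_on with
  | _ t ih =>
    have hl : ∀ i < C.nfact, C.fLab i ≤ C.g := fun i hi =>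
      Nat.le_of_ble_eq_true (List.all_eq_true.1 V.labs i (List.mem_range.2 hi))
    have hs : ∀ c' x', c' < C.n → x' < C.g → C.time c' x' < t → SlotOK M c' x' :=
      fun c' x' h1 h2 h3 => ih _ h3 c' x' h1 h2 rfl
    have hf : ∀ i, i < C.nfact → C.fTime i < t → FactOK M i := by
      intro i
      induction i using Nat.strong_induction_on with
      | _ i ihi =>
        intro hi ht
        have hj := okFacts_get js 0 V.facts i (V.len ▸ hi)
        rw [Nat.zero_add] at hj
        exact fact_sound M hj (hl i hi) (fun c' x' a b d => hs c' x' a b (d.trans ht))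
          (fun m hm => hl m (hm.trans hi)) fun m hm hm' =>
            ihi m hm (hm.trans hi) (lt_of_le_of_lt hm' ht)
    intro c x hc hx ht
    subst ht
    by_cases hk : C.kind c x ≤ 3
    · exact slot_sound M (V.slots c hc x hx) hk hs hf hx
    · have h := V.slots c hc x hx
      have h5 : ∃ (d y : Nat), d = C.dest c x ∧ y = C.iv x ∧ d < C.n ∧ y < C.g ∧
          C.iv y = x ∧ C.kind d y ≤ 3 ∧ C.dest d y = c ∧ C.time d y = C.time c x := by
        unfold okSlot at h
        split at h
        all_goals try omega
        simp only [decide_eq_true_eq] at h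
        exact ⟨_, _, rfl, rfl, h⟩
      obtain ⟨d, y, hd, hy, h1, h2, h3, h4, h6, h7⟩ := h5
      have := rel_symm M (slot_sound M (V.slots d h1 y h2) h4 (h7 ▸ hs) (h7 ▸ hf) h2)
      rw [h6, ← (M.gen_inv y h2).2, h3, hd] at this
      exact this

theorem dest_lt {js : List Just} (V : Valid C js) {c x : Nat} (hc : c < C.n) (hx : x < C.g) :
    C.dest c x < C.n := by
  have h := V.slots c hc x hx
  unfold okSlot at h
  split at h <;> simp only [decide_eq_true_eq] at h
  · exact h.2.1
  · exact h.2.2.2.1
  · exact h.2.2.2.1
  · exact h.2.2.2.2.2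
  · exact h.1

/-- The cosets listed by a valid certificate are all cosets. -/
theorem exists_coset {js : List Just} (V : Valid C js) (q : Q) :
    ∃ c < C.n, q * (val M c)⁻¹ ∈ M.sub := by
  have key : ∀ q : Q, q ∈ Subgroup.closure {q | ∃ x < C.g, M.gen x = q} →
      ∀ c < C.n, ∃ d < C.n, val M c * q * (val M d)⁻¹ ∈ M.sub := by
    intro q hq
    induction hq using Subgroup.closure_induction'' with
    | mem q hq =>
      obtain ⟨x, hx, rfl⟩ := hq
      exact fun c hc => ⟨_, dest_lt V hc hx, slots_ok M V _ c x hc hx rfl⟩
    | inv_mem q hq =>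
      obtain ⟨x, hx, rfl⟩ := hq
      intro c hc
      obtain ⟨h1, h2⟩ := M.gen_inv x hx
      exact ⟨_, dest_lt V hc h1, h2 ▸ slots_ok M V _ c _ hc h1 rfl⟩
    | one => exact fun c hc => ⟨c, hc, by simp⟩
    | mul a b _ _ ha hb =>
      intro c hc
      obtain ⟨d, hd, h1⟩ := ha c hc
      obtain ⟨e, he, h2⟩ := hb d hd
      exact ⟨e, he, rel_trans M h1 h2⟩
  obtain ⟨d, hd, h⟩ := key q (by rw [M.closure_gen]; trivial) 0 V.pos
  exact ⟨d, hd, by simpa [val_zero] using h⟩

/-- A valid certificate bounds the index. -/
theorem index_le {js : List Just} (V : Valid C js) :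
    M.sub.index ≤ C.n ∧ M.sub.FiniteIndex := by
  let f : Fin C.n → Q ⧸ M.sub := fun c => ((val M c)⁻¹ : Q)
  have hf : Function.Surjective f := by
    intro y
    obtain ⟨q, rfl⟩ := QuotientGroup.mk_surjective y
    obtain ⟨c, hc, h⟩ := exists_coset M V q⁻¹
    exact ⟨⟨c, hc⟩, QuotientGroup.eq.2 (by simpa using M.sub.inv_mem h)⟩
  have : Finite (Q ⧸ M.sub) := Finite.of_surjective f hf
  refine ⟨?_, Subgroup.finiteIndex_of_finite_quotient⟩
  rw [Subgroup.index_eq_card]
  simpa using Nat.card_le_card_of_surjective f hf

end Cert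

end CfsgLib.PresCert
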