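import Mathlib

/-!
Certificates for coset enumerations: packed tables stored in binary trees of natural numbers, and
loops over intervals of natural numbers suited to kernel evaluation.

Natural number operations are written with the primitive functions and raw literals, as this is
much faster in the kernel than the overloaded notation.
-/

namespace CfsgLib.PresCert

/-- A binary tree with natural numbers at the leaves. -/
inductive BTree where
  | leaf : Nat → BTree
  | node : BTree → BTree → BTree

/-- The leaf reached by the binary digits of `i`, least significant first. -/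
noncomputable def BTree.get (t : BTree) : Nat → Nat :=
  BTree.rec (motive := fun _ => Nat → Nat) (fun v _ => v)
    (fun _ _ gl gr i => (Bool.rec (motive := fun _ => Nat → Nat) gl gr
      (Nat.beq (Nat.land i (nat_lit 1)) (nat_lit 1))) (Nat.shiftRight i (nat_lit 1))) t

/-- Entry `i` of a table of 64-bit words, 32 to a leaf. -/
noncomputable def BTree.word (t : BTree) (i : Nat) : Nat :=
  Nat.land
    (Nat.shiftRight (t.get (Nat.shiftRight i (nat_lit 5)))
      (Nat.shiftLeft (Nat.land i (nat_lit 31)) (nat_lit 6)))
    (nat_lit 18446744073709551615)

/-- Entry `i` of a table of 16-bit words, 128 to a leaf. -/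
noncomputable def BTree.half (t : BTree) (i : Nat) : Nat :=
  Nat.land
    (Nat.shiftRight (t.get (Nat.shiftRight i (nat_lit 7)))
      (Nat.shiftLeft (Nat.land i (nat_lit 127)) (nat_lit 4)))
    (nat_lit 65535)

/-- `p` holds at all `i` with `lo ≤ i < n` and `i < lo + 2 ^ d`. -/
noncomputable def allBin (n : Nat) (p : Nat → Bool) (d : Nat) : Nat → Bool :=
  Nat.rec (motive := fun _ => Nat → Bool)
    (fun l => Bool.rec (p l) true (Nat.ble n l))
    (fun k ih l => Bool.rec (Bool.rec false (ih (Nat.add l (Nat.shiftLeft (nat_lit 1) k))) (ih l))
      true (Nat.ble n l)) d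

theorem allBin_spec (n : Nat) (p : Nat → Bool) :
    ∀ (d lo : Nat), allBin n p d lo = true → ∀ i, lo ≤ i → i < n → i < lo + 2 ^ d → p i = true := by
  intro d
  induction d with
  | zero =>
    intro lo h i h1 h2 h3
    obtain rfl : lo = i := by omega
    cases hb : Nat.ble n lo with
    | true => exact absurd (Nat.le_of_ble_eq_true hb) (by omega)
    | false => simpa [allBin, hb] using h
  | succ k ih =>
    intro lo h i h1 h2 h3
    cases hb : Nat.ble n lo with
    | true => exact absurd (Nat.le_of_ble_eq_true hb) (by omega)
    | false =>
      have e : lo + Nat.shiftLeft 1 k = lo + 2 ^ k := by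
        simp [Nat.shiftLeft_eq]
      change (Bool.rec (Bool.rec false (allBin n p k (lo + Nat.shiftLeft 1 k)) (allBin n p k lo))
        true (Nat.ble n lo) : Bool) = true at h
      simp only [hb] at h
      cases hl : allBin n p k lo with
      | false => simp [hl] at h
      | true =>
        simp only [hl] at h
        rw [e] at h
        rcases lt_or_ge i (lo + 2 ^ k) with hi | hi
        · exact ih lo hl i h1 h2 hi
        · exact ih _ h i hi h2 (by rw [pow_succ] at h3; omega)

/-- `p` holds at every `i < n` (correct for `n ≤ 2 ^ 24`, and false beyond). -/
noncomputable def allBelow (n : Nat) (p : Nat → Bool) : Bool :=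
  Bool.rec false (allBin n p (nat_lit 24) (nat_lit 0)) (Nat.ble n (nat_lit 16777216))

theorem allBelow_spec {n : Nat} {p : Nat → Bool} (h : allBelow n p = true) :
    ∀ i < n, p i = true := by
  intro i hi
  cases hb : Nat.ble n 16777216 with
  | false => simp [allBelow, hb] at h
  | true =>
    have := Nat.le_of_ble_eq_true hb
    exact allBin_spec n p 24 0 (by simpa [allBelow, hb] using h) i (by omega) hi (by omega)

end CfsgLib.PresCert
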