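import Cfsg.Agent.Lib.PresCert.Presented
import Cfsg.Agent.Lib.PresCert.CosetAction

/-!
Permutation tables for larger degrees.  This is a variant of `PermData` whose tables have large
leaves and one tree for each element, which is several times faster in the kernel; the checks and
their soundness are the same.
-/

namespace CfsgLib.PresCert.Wide

open Cfsg.Spor Equiv

/-- Data for a lower bound on the order of a group of permutations of `Fin n`, for degrees up to
`2 ^ 16`: one table of packed images for each element, with 4096 entries to a leaf. -/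
structure PermData where
  /-- degree -/
  n : Nat
  /-- number of given generators -/
  g : Nat
  /-- images under each element -/
  tabs : List BTree
  /-- for each further element, the word in earlier elements (first letter acts first) -/
  words : List (List Nat)

namespace PermData

variable (D : PermData)

/-- image of a point under an element -/
noncomputable def img (k i : Nat) : Nat :=
  Nat.land
    (Nat.shiftRight ((D.tabs.getD k (.leaf (nat_lit 0))).get (Nat.shiftRight i (nat_lit 12)))
      (Nat.shiftLeft (Nat.land i (nat_lit 4095)) (nat_lit 4)))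
    (nat_lit 65535)

/-- apply a word, first letter first -/
noncomputable def app : List Nat → Nat → Nat
  | [], i => i
  | k :: w, i => app w (D.img k i)

/-- the further elements are the products they claim to be -/
noncomputable def okWords : Nat → List (List Nat) → Bool
  | _, [] => true
  | k, w :: l =>
    (w.all fun j => Nat.blt j k) &&
      (allBelow D.n fun i => Nat.beq (D.app w i) (D.img k i)) && okWords (k + 1) l

/-- the orbit of a level is correct -/
noncomputable def okOrbit (L : Level) : Bool :=
  Nat.blt 0 L.len && Nat.beq (Nat.land (L.orb.word (nat_lit 0)) (nat_lit 65535)) L.base && Nat.blt L.base D.n &&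
    Nat.beq (L.pos.word L.base) 0 &&
    (L.gens.all fun k => Nat.blt k (D.g + D.words.length)) &&
    allBelow L.len fun p =>
      let e := L.orb.word p
      let pt := Nat.land e (nat_lit 65535)
      let par := Nat.land (Nat.shiftRight e (nat_lit 16)) (nat_lit 65535)
      let k := L.gens.getD (Nat.shiftRight e (nat_lit 32)) (nat_lit 0)
      Nat.blt pt D.n && Nat.beq (L.pos.word pt) p &&
        (Nat.beq p 0 || (Nat.blt par p && Nat.blt (Nat.shiftRight e (nat_lit 32)) L.gens.length &&
          Nat.beq (D.img k (Nat.land (L.orb.word par) (nat_lit 65535))) pt))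

/-- every level is correct and its generators fix the earlier base points -/
noncomputable def okLevels : List Nat → List Level → Bool
  | _, [] => true
  | bs, L :: ls =>
    D.okOrbit L &&
      (L.gens.all fun k => bs.all fun b => Nat.beq (D.img k b) b) &&
      (ls.all fun L' => L'.gens.all fun k => Nat.beq (D.img k L.base) L.base) &&
      okLevels (L.base :: bs) ls

/-- the orbit of a level is closed under its generators -/
noncomputable def okClosed (L : Level) : Bool :=
  L.gens.all fun k => allBelow L.len fun p =>
    let q := D.img k (Nat.land (L.orb.word p) (nat_lit 65535))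
    let r := L.pos.word q
    Nat.blt r L.len && Nat.beq (Nat.land (L.orb.word r) (nat_lit 65535)) q

end PermData



namespace PermData

open Equiv

/-- The meaning of the tables: generators as permutations. -/
structure Interp (D : PermData) where
  /-- the generators -/
  gen : Nat → Perm (Fin D.n)
  gen_img : ∀ k < D.g, ∀ i : Fin D.n, ((gen k i : Fin D.n) : Nat) = D.img k i

variable {D : PermData} (I : Interp D)

/-- the group generated by the generators -/
def grp : Subgroup (Perm (Fin D.n)) := Subgroup.closure {σ | ∃ k < D.g, I.gen k = σ}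

theorem okWords_get : ∀ (l : List (List Nat)) (k : Nat), D.okWords k l = true →
    ∀ i, ∀ h : i < l.length, (∀ j ∈ l[i], j < k + i) ∧
      ∀ p < D.n, D.app l[i] p = D.img (k + i) p
  | [], _, _, i, h => by simp at h
  | w :: l, k, h, i, hi => by
    simp only [okWords, Bool.and_eq_true, List.all_eq_true, Nat.blt_eq] at h
    obtain ⟨⟨h1, h2'⟩, h3⟩ := h
    have h2 : ∀ p < D.n, D.app w p = D.img k p := fun p hp =>
      Nat.eq_of_beq_eq_true (allBelow_spec h2' p hp)
    rcases i with _ | i
    · exact ⟨by simpa using h1, by simpa using h2⟩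
    · have := okWords_get l (k + 1) h3 i (by simpa using hi)
      simpa [add_assoc, add_comm 1 i] using this

theorem elem_exists (hw : D.okWords D.g D.words = true) :
    ∀ k < D.g + D.words.length,
      ∃ σ ∈ grp I, ∀ i : Fin D.n, ((σ i : Fin D.n) : Nat) = D.img k i := by
  intro k
  induction k using Nat.strong_induction_on with
  | _ k ih =>
    intro hk
    rcases lt_or_ge k D.g with h | h
    · exact ⟨I.gen k, Subgroup.subset_closure ⟨k, h, rfl⟩, I.gen_img k h⟩
    obtain ⟨i, rfl⟩ : ∃ i, k = D.g + i := ⟨k - D.g, by omega⟩
    obtain ⟨h1, h2⟩ := okWords_get D.words D.g hw i (by omega)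
    suffices key : ∀ w : List Nat, (∀ j ∈ w, j < D.g + i) →
        ∃ σ ∈ grp I, ∀ p : Fin D.n, ((σ p : Fin D.n) : Nat) = D.app w p by
      obtain ⟨σ, hσ, he⟩ := key _ h1
      exact ⟨σ, hσ, fun p => by rw [he, h2 p p.2]⟩
    intro w
    induction w with
    | nil => exact fun _ => ⟨1, one_mem _, fun p => by simp [app]⟩
    | cons j w ihw =>
      intro hjw
      obtain ⟨hj, hw'⟩ := List.forall_mem_cons.1 hjw
      obtain ⟨τ, hτ, eτ⟩ := ihw hw'
      obtain ⟨ρ, hρ, eρ⟩ := ih j hj (by omega)
      exact ⟨τ * ρ, mul_mem hτ hρ, fun p => by simp [app, eτ, eρ]⟩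

/-- the subgroup of the group fixing the listed points -/
def fixing (bs : List Nat) : Subgroup (Perm (Fin D.n)) where
  carrier := {σ | σ ∈ grp I ∧ ∀ i : Fin D.n, (i : Nat) ∈ bs → σ i = i}
  one_mem' := ⟨one_mem _, fun _ _ => rfl⟩
  mul_mem' := by
    intro a b ha hb
    exact ⟨mul_mem ha.1 hb.1, fun i hi => by simp [hb.2 i hi, ha.2 i hi]⟩
  inv_mem' := by
    intro a ha
    refine ⟨inv_mem ha.1, fun i hi => ?_⟩
    rw [Perm.inv_eq_iff_eq, ha.2 i hi]

theorem levels_bound (hw : D.okWords D.g D.words = true) :
    ∀ (ls : List Level) (bs : List Nat), D.okLevels bs ls = true →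
      (ls.map Level.len).prod ≤ Nat.card (fixing I bs)
  | [], bs, _ => by
    simp only [List.map_nil, List.prod_nil]
    exact (Nat.card_pos : 0 < Nat.card (fixing I bs))
  | L :: ls, bs, h => by
    simp only [okLevels, okOrbit, Bool.and_eq_true, List.all_eq_true, List.mem_range, Nat.blt_eq,
      Nat.beq_eq, Bool.or_eq_true] at h
    obtain ⟨⟨⟨⟨⟨⟨⟨⟨hlen, horb0⟩, hbase⟩, hpos0⟩, hgens⟩, horb'⟩, hfix⟩, -⟩, hrest⟩ := h
    have horb := fun p hp => allBelow_spec horb' p hp
    simp only [Bool.and_eq_true, Bool.or_eq_true, Nat.blt_eq, Nat.beq_eq] at horb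
    have ih := levels_bound hw ls _ hrest
    let b : Fin D.n := ⟨L.base, hbase⟩
    let K := fixing I bs
    -- every orbit point is an image of the base point
    have key : ∀ p, p < L.len → ∃ σ ∈ K, ((σ b : Fin D.n) : Nat) = Nat.land (L.orb.word p) 65535 := by
      intro p
      induction p using Nat.strong_induction_on with
      | _ p ihp =>
        intro hp
        obtain ⟨-, hp0 | ⟨⟨hpar, hk⟩, himg⟩⟩ := horb p hp
        · subst hp0
          exact ⟨1, one_mem _, by rw [horb0]; rfl⟩
        obtain ⟨σ, hσ, eσ⟩ := ihp _ hpar (hpar.trans hp)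
        have hmem : L.gens.getD (Nat.shiftRight (L.orb.word p) 32) 0 ∈ L.gens := by
          rw [List.getD_eq_getElem?_getD, List.getElem?_eq_getElem hk]
          exact List.getElem_mem hk
        obtain ⟨τ, hτ, eτ⟩ := elem_exists I hw _ (hgens _ hmem)
        have hτK : τ ∈ K := ⟨hτ, fun i hi => Fin.ext (by rw [eτ, hfix _ hmem i hi])⟩
        exact ⟨τ * σ, mul_mem hτK hσ, by rw [Perm.mul_apply, eτ, eσ, himg]⟩
    choose σ hσ eσ using key
    let φ : Fin L.len × fixing I (L.base :: bs) → K := fun q =>
      ⟨σ q.1 q.1.2 * (q.2 : Perm (Fin D.n)), mul_mem (hσ _ _)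
        ⟨q.2.2.1, fun i hi => q.2.2.2 i (List.mem_cons_of_mem _ hi)⟩⟩
    have hφ : Function.Injective φ := by
      rintro ⟨p, τ⟩ ⟨p', τ'⟩ h
      have h' : σ p p.2 * (τ : Perm (Fin D.n)) = σ p' p'.2 * (τ' : Perm (Fin D.n)) :=
        congrArg Subtype.val h
      have hb : (τ : Perm (Fin D.n)) b = b := τ.2.2 b (List.mem_cons_self ..)
      have hb' : (τ' : Perm (Fin D.n)) b = b := τ'.2.2 b (List.mem_cons_self ..)
      have hp : (p : Nat) = p' := by
        have e := congrArg (fun π : Perm (Fin D.n) => ((π b : Fin D.n) : Nat)) h'
        simp only [Perm.mul_apply, hb, hb', eσ] at e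
        rw [← (horb p p.2).1.2, ← (horb p' p'.2).1.2, e]
      obtain rfl : p = p' := Fin.ext hp
      exact Prod.ext rfl (Subtype.ext (mul_left_cancel h'))
    have hc := Nat.card_le_card_of_injective φ hφ
    rw [Nat.card_prod, Nat.card_eq_fintype_card, Fintype.card_fin] at hc
    simpa using le_trans (Nat.mul_le_mul_left _ ih) hc

/-- the product of the orbit lengths bounds the order from below -/
theorem le_card (hw : D.okWords D.g D.words = true) (ls : List Level)
    (hl : D.okLevels [] ls = true) : (ls.map Level.len).prod ≤ Nat.card (grp I) :=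
  (levels_bound I hw ls [] hl).trans
    (Nat.card_le_card_of_injective (fun σ : fixing I [] => (⟨σ, σ.2.1⟩ : grp I))
      fun a b h => Subtype.ext (congrArg Subtype.val h :))

/-- the bound for the preimage of a generating set under a homomorphism -/
theorem le_card_of_hom {G : Type*} [Group G] (K : Subgroup G) [Finite K]
    (π : G →* Perm (Fin D.n))
    (hgen : ∀ k < D.g, ∃ x ∈ K, ∀ i : Fin D.n, ((π x i : Fin D.n) : Nat) = D.img k i)
    (hw : D.okWords D.g D.words = true) (ls : List Level) (hl : D.okLevels [] ls = true) :
    (ls.map Level.len).prod ≤ Nat.card K := by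
  choose x hx he using hgen
  let I : Interp D :=
    ⟨fun k => if hk : k < D.g then π (x k hk) else 1, fun k hk i => by
      simp only [dif_pos hk]; exact he k hk i⟩
  refine (le_card I hw ls hl).trans ?_
  refine (Nat.le_of_dvd Nat.card_pos (Subgroup.card_dvd_of_le (K := K.map π) ?_)).trans
    (Nat.le_of_dvd Nat.card_pos (Subgroup.card_map_dvd K π))
  rw [grp, Subgroup.closure_le]
  rintro _ ⟨k, hk, rfl⟩
  exact ⟨x k hk, hx k hk, by simp [I, dif_pos hk]⟩

end PermData



namespace PermData

/-- the word moves no point -/
noncomputable def okId (D : PermData) (w : List Nat) : Bool :=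
  allBelow D.n fun i => Nat.beq (D.app w i) i

/-- the given generators are involutions (or trivial) -/
noncomputable def okInvol (D : PermData) : Bool :=
  allBelow D.g fun k => allBelow D.n fun i =>
    let j := D.img k i
    Nat.blt j D.n && Nat.beq (D.img k j) i

variable {D : PermData}

theorem okInvol_spec (h : D.okInvol = true) {k : Nat} (hk : k < D.g) (i : Fin D.n) :
    D.img k i < D.n ∧ D.img k (D.img k i) = i := by
  have := allBelow_spec (allBelow_spec h k hk) (i : Nat) i.2
  simpa using this

/-- the permutation of a generator -/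
noncomputable def genPerm (h : D.okInvol = true) (k : Nat) : Equiv.Perm (Fin D.n) :=
  if hk : k < D.g then
    Function.Involutive.toPerm (fun i => ⟨D.img k i, (okInvol_spec h hk i).1⟩)
      fun i => Fin.ext (okInvol_spec h hk i).2
  else 1

theorem genPerm_img (h : D.okInvol = true) {k : Nat} (hk : k < D.g) (i : Fin D.n) :
    ((genPerm h k i : Fin D.n) : Nat) = D.img k i := by
  rw [genPerm, dif_pos hk]
  rfl

theorem genPerm_sq (h : D.okInvol = true) (k : Nat) : genPerm h k * genPerm h k = 1 := by
  by_cases hk : k < D.g
  · refine Equiv.ext fun i => Fin.ext ?_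
    rw [Equiv.Perm.mul_apply, genPerm_img h hk, genPerm_img h hk, (okInvol_spec h hk i).2]
    rfl
  · simp [genPerm, hk]

/-- the interpretation of the tables -/
noncomputable def interp (h : D.okInvol = true) : Interp D :=
  ⟨genPerm h, fun _ hk i => genPerm_img h hk i⟩

theorem prod_apply (h : D.okInvol = true) : ∀ (w : List Nat), (∀ k ∈ w, k < D.g) → ∀ i : Fin D.n,
    (((w.map (genPerm h)).prod i : Fin D.n) : Nat) = D.app w.reverse i := by
  intro w
  induction w using List.reverseRecOn with
  | nil => simp [app]
  | append_singleton w k ih =>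
    intro hw i
    rw [List.map_append, List.prod_append]
    simp only [List.map_cons, List.map_nil, List.prod_cons, List.prod_nil, mul_one,
      Equiv.Perm.mul_apply, List.reverse_append, List.reverse_cons, List.reverse_nil,
      List.nil_append, List.cons_append, app]
    rw [ih (fun k hk => hw k (List.mem_append_left _ hk)),
      genPerm_img h (hw k (List.mem_append_right _ (List.mem_singleton_self k)))]

/-- the numeric words are trivial on every point -/
noncomputable def okNums (D : PermData) (ns : List (List Nat)) : Bool :=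
  ns.all fun w => (w.all fun k => Nat.blt k D.g) && D.okId w

/-- every word is, as a numeric word or reversed, one of the listed ones -/
noncomputable def okCovered {α : Type*} (idx : α → Nat) (ns : List (List Nat))
    (ws : List (List α)) : Bool :=
  ws.all fun w => ns.contains (w.map idx) || ns.contains (w.map idx).reverse

theorem word_eq_one (h : D.okInvol = true) {α : Type*} (idx : α → Nat) {ns : List (List Nat)}
    {ws : List (List α)} (hns : okNums D ns = true) (hws : okCovered idx ns ws = true) :
    ∀ w ∈ ws, (w.map fun x => genPerm h (idx x)).prod = 1 := by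
  intro w hw
  simp only [okCovered, List.all_eq_true, Bool.or_eq_true, List.contains_iff_mem] at hws
  simp only [okNums, okId, List.all_eq_true, Bool.and_eq_true, Nat.blt_eq] at hns
  have key : ∀ v ∈ ns, (v.reverse.map (genPerm h)).prod = 1 := by
    intro v hv
    obtain ⟨h1, h2⟩ := hns v hv
    refine Equiv.ext fun i => Fin.ext ?_
    rw [prod_apply h v.reverse (fun k hk => h1 k (List.mem_reverse.1 hk)) i, List.reverse_reverse,
      Nat.eq_of_beq_eq_true (allBelow_spec h2 i i.2)]
    rfl
  have e : (w.map fun x => genPerm h (idx x)) = (w.map idx).map (genPerm h) := by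
    rw [List.map_map]; rfl
  rw [e]
  rcases hws w hw with h1 | h1
  · have := key _ h1
    rwa [prod_reverse_of_invol _ (genPerm_sq h), inv_eq_one] at this
  · simpa using key _ h1

end PermData


section Rep

variable {α : Type} [DecidableEq α] {edges : List (α × ℕ × α)} {extra : List (FreeGroup α)}
  (D : PermData) (idx : α → Nat) {ws : List (List α)}

/-- the permutation representation of the presented group given by the tables -/
noncomputable def rep (h : D.okInvol = true) (hws : WordsFor extra ws)
    {ns : List (List Nat)} (hns : D.okNums ns = true)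
    (hk : PermData.okCovered idx ns (knownWords edges ws) = true) :
    PresentedGroup (coxRelators edges ∪ {r | r ∈ extra}) →* Equiv.Perm (Fin D.n) :=
  PresentedGroup.toGroup (f := fun x => D.genPerm h (idx x)) (by
    have hw := PermData.word_eq_one h idx hns hk
    rintro r (⟨x, hx, y, hy, rfl⟩ | hr)
    · have := hw (pairWord edges x y)
        (List.mem_append_left _ (List.mem_flatMap.2 ⟨x, hx, List.mem_map.2 ⟨y, hy, rfl⟩⟩))
      rw [pairWord, prod_map_replicate_pair] at this
      simpa using this
    · have e := hws (fun x => D.genPerm h (idx x)) fun x => PermData.genPerm_sq h _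
      have : FreeGroup.lift (fun x => D.genPerm h (idx x)) r ∈
          ws.map fun w => (w.map fun x => D.genPerm h (idx x)).prod :=
        e ▸ List.mem_map.2 ⟨r, hr, rfl⟩
      obtain ⟨w, hwm, e'⟩ := List.mem_map.1 this
      rw [← e']
      exact hw w (List.mem_append_right _ hwm))

variable {D idx}

theorem rep_of (h : D.okInvol = true) (hws : WordsFor extra ws)
    {ns : List (List Nat)} (hns : D.okNums ns = true)
    (hk : PermData.okCovered idx ns (knownWords edges ws) = true) (x : α) :
    rep D idx h hws hns hk (pgen edges extra x) = D.genPerm h (idx x) := by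
  simp [rep, pgen]

theorem le_card (h : D.okInvol = true) (hws : WordsFor extra ws)
    {ns : List (List Nat)} (hns : D.okNums ns = true)
    (hk : PermData.okCovered idx ns (knownWords edges ws) = true)
    (hidx : ∀ k < D.g, ∃ x, idx x = k)
    (hw : D.okWords D.g D.words = true) (ls : List Level) (hl : D.okLevels [] ls = true)
    [Finite (PresentedGroup (coxRelators edges ∪ {r | r ∈ extra}))] :
    (ls.map Level.len).prod ≤ Nat.card (PresentedGroup (coxRelators edges ∪ {r | r ∈ extra})) := by
  refine (PermData.le_card (PermData.interp h) hw ls hl).trans ?_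
  refine (Nat.le_of_dvd Nat.card_pos (Subgroup.card_dvd_of_le
    (K := (rep D idx h hws hns hk).range) ?_)).trans
    (Nat.card_le_card_of_surjective _ (rep D idx h hws hns hk).rangeRestrict_surjective)
  rw [PermData.grp, Subgroup.closure_le]
  rintro _ ⟨k, hk', rfl⟩
  obtain ⟨x, rfl⟩ := hidx k hk'
  exact ⟨pgen edges extra x, rep_of h hws hns hk x⟩

end Rep


namespace PermData

variable {D : PermData} (I : Interp D)

/-- The orbit of the base point of a checked, closed level under the group generated by the
permutations named by the level. -/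
theorem ncard_orbit (L : Level) (ho : D.okOrbit L = true) (hc : D.okClosed L = true)
    (hg : ∀ k ∈ L.gens, k < D.g) (S : Subgroup (Perm (Fin D.n)))
    (hS : S = Subgroup.closure {σ | ∃ k ∈ L.gens, I.gen k = σ}) (hb : L.base < D.n) :
    Set.ncard {i | ∃ σ ∈ S, σ ⟨L.base, hb⟩ = i} = L.len := by
  subst hS
  simp only [okOrbit, Bool.and_eq_true, List.all_eq_true, Nat.blt_eq, Nat.beq_eq] at ho
  obtain ⟨⟨⟨⟨⟨hlen, horb0⟩, -⟩, -⟩, -⟩, horb'⟩ := ho
  have horb := fun p hp => allBelow_spec horb' p hp
  simp only [Bool.and_eq_true, Bool.or_eq_true, Nat.blt_eq, Nat.beq_eq] at horb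
  simp only [okClosed, List.all_eq_true] at hc
  let pt : Fin L.len → Fin D.n := fun p => ⟨Nat.land (L.orb.word p) 65535, (horb p p.2).1.1⟩
  have hinj : Function.Injective pt := fun p q h => Fin.ext (by
    rw [← (horb p p.2).1.2, ← (horb q q.2).1.2]
    exact congrArg _ (congrArg Fin.val h))
  suffices h : {i | ∃ σ ∈ Subgroup.closure {σ | ∃ k ∈ L.gens, I.gen k = σ},
      σ ⟨L.base, hb⟩ = i} = Set.range pt by
    rw [h, Set.ncard_range_of_injective hinj, Nat.card_eq_fintype_card, Fintype.card_fin]
  apply subset_antisymm
  · rintro _ ⟨σ, hσ, rfl⟩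
    have key : ∀ x ∈ Set.range pt, σ x ∈ Set.range pt := by
      induction hσ using Subgroup.closure_induction'' with
      | mem σ hσ =>
        obtain ⟨k, hk, rfl⟩ := hσ
        rintro _ ⟨p, rfl⟩
        have := allBelow_spec (hc k hk) p p.2
        simp only [Bool.and_eq_true, Nat.blt_eq, Nat.beq_eq] at this
        exact ⟨⟨_, this.1⟩, Fin.ext (by rw [I.gen_img k (hg k hk)]; exact this.2)⟩
      | inv_mem σ hσ =>
        obtain ⟨k, hk, rfl⟩ := hσ
        have hm : Set.MapsTo (I.gen k) (Set.range pt) (Set.range pt) := by
          rintro _ ⟨p, rfl⟩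
          have := allBelow_spec (hc k hk) p p.2
          simp only [Bool.and_eq_true, Nat.blt_eq, Nat.beq_eq] at this
          exact ⟨⟨_, this.1⟩, Fin.ext (by rw [I.gen_img k (hg k hk)]; exact this.2)⟩
        intro x hx
        exact Equiv.Perm.perm_symm_mapsTo_of_mapsTo _ hm hx
      | one => simp
      | mul a b _ _ iha ihb => exact fun x hx => iha _ (ihb x hx)
    exact key _ ⟨⟨0, hlen⟩, Fin.ext horb0⟩
  · rintro _ ⟨p, rfl⟩
    obtain ⟨p, hp⟩ := p
    induction p using Nat.strong_induction_on with
    | _ p ih =>
      obtain ⟨-, hp0 | ⟨⟨hpar, hk⟩, himg⟩⟩ := horb p hp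
      · subst hp0
        exact ⟨1, one_mem _, Fin.ext horb0.symm⟩
      obtain ⟨σ, hσ, eσ⟩ := ih _ hpar (hpar.trans hp)
      have hmem : L.gens.getD (Nat.shiftRight (L.orb.word p) 32) 0 ∈ L.gens := by
        rw [List.getD_eq_getElem?_getD, List.getElem?_eq_getElem hk]
        exact List.getElem_mem hk
      refine ⟨_, mul_mem (Subgroup.subset_closure ⟨_, hmem, rfl⟩) hσ, Fin.ext ?_⟩
      rw [Perm.mul_apply, eσ, I.gen_img _ (hg _ hmem)]
      exact himg

end PermData


end CfsgLib.PresCert.Wide
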